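import Mathlib.GroupTheory.OrderOfElement
import Mathlib.Data.Nat.Factorization.Basic
import Mathlib.Tactic.Ring

/-!
# Divisible groups with bounded torsion
-/

set_option autoImplicit false

namespace Groth.Agent.Sga7.H753.IndGrp

/-- An `ℓ`-divisible group with bounded `ℓ`-power torsion has no `ℓ`-torsion. -/
theorem eq_one_of_bound {P : Type*} [Group P] {l : ℕ} (hdiv : ∀ x : P, ∃ y : P, y ^ l = x) (B : ℕ)
    (hB : ∀ (n : ℕ) (s : Finset P), (∀ x ∈ s, x ^ (l ^ n) = 1) → s.card ≤ B) (n : ℕ) (x : P)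
    (hx : x ^ (l ^ n) = 1) : x = 1 := by
  classical
  choose r hr using hdiv
  let z : ℕ → P := fun j => r^[j] x
  have hz : ∀ j, z (j + 1) ^ l = z j := fun j => by
    show (r^[j + 1] x) ^ l = r^[j] x
    rw [Function.iterate_succ_apply', hr]
  have hz' : ∀ m j, z (j + m) ^ (l ^ m) = z j := by
    intro m
    induction m with
    | zero => intro j; rw [pow_zero, pow_one, add_zero]
    | succ m ih =>
      intro j
      rw [pow_succ', pow_mul, ← add_assoc, hz, ih]
  have hz0 : ∀ j, z j ^ (l ^ j) = x := fun j => by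
    have := hz' j 0
    rwa [zero_add] at this
  have hzt : ∀ j, z j ^ (l ^ (j + n)) = 1 := fun j => by
    rw [pow_add, pow_mul, hz0, hx]
  by_contra hne
  have hinj : ∀ i d, z i ≠ z (i + (d + 1)) := by
    intro i d h
    apply hne
    have h1 : z i ^ (l ^ (d + 1)) = z i := by
      conv_lhs => rw [h]
      exact hz' (d + 1) i
    have h2 : ∀ m, z i ^ (l ^ ((d + 1) * m)) = z i := by
      intro m
      induction m with
      | zero => rw [mul_zero, pow_zero, pow_one]
      | succ m ih => rw [mul_add, mul_one, pow_add, pow_mul, ih, h1]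
    have h3 : z i = 1 := by
      rw [← h2 (i + n), show (d + 1) * (i + n) = (i + n) + d * (i + n) by ring, pow_add, pow_mul, hzt, one_pow]
    rw [← hz0 i, h3, one_pow]
  have hinj' : Function.Injective z := by
    intro i j hij
    rcases lt_trichotomy i j with h | h | h
    · obtain ⟨d, rfl⟩ := Nat.exists_eq_add_of_lt h
      exact absurd hij (by rw [add_assoc]; exact hinj i d)
    · exact h
    · obtain ⟨d, rfl⟩ := Nat.exists_eq_add_of_lt h
      exact absurd hij.symm (by rw [add_assoc]; exact hinj j d)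
  have h1 := hB (B + 1 + n) ((Finset.range (B + 1)).image z) (by
    intro y hy
    obtain ⟨j, hj, rfl⟩ := Finset.mem_image.1 hy
    have hj' := Finset.mem_range.1 hj
    rw [show B + 1 + n = (j + n) + (B + 1 - j) by omega, pow_add, pow_mul, hzt, one_pow])
  rw [Finset.card_image_of_injective _ hinj', Finset.card_range] at h1
  omega

/-- In a finite group an `ℓ`-power torsion element with `ℓ^j`-th roots for all `j` is trivial. -/
theorem eq_one_of_finite {F : Type*} [Group F] [Finite F] {l : ℕ} (hl : l.Prime) {y : F} {n : ℕ}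
    (hn : y ^ (l ^ n) = 1) (hd : ∀ j : ℕ, ∃ z : F, z ^ (l ^ j) = y) : y = 1 := by
  obtain ⟨a, m, hm, hcard⟩ := Nat.exists_eq_pow_mul_and_not_dvd (Nat.card_pos (α := F)).ne' l hl.ne_one
  obtain ⟨z, hz⟩ := hd a
  have h1 : y ^ m = 1 := by
    rw [← hz, ← pow_mul, ← hcard, pow_card_eq_one']
  have h2 : Nat.Coprime (l ^ n) m := (Nat.Prime.coprime_iff_not_dvd hl).2 hm |>.pow_left n
  rw [← orderOf_eq_one_iff]
  exact Nat.eq_one_of_dvd_coprimes h2 (orderOf_dvd_of_pow_eq_one hn) (orderOf_dvd_of_pow_eq_one h1)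

end Groth.Agent.Sga7.H753.IndGrp
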