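import Groth.Prelude.Def_SGA7IX
import Groth.Agent.Sga67.TorsionLift

/-!
# Base change of geometric points

`K ⟶ L ⟶ Ω` a tower of fields, `A` a group scheme over `K`: the `Ω`-points of `A_L` over `L` are the `Ω`-points
of `A` over `K`, compatibly with the group laws and with the action of `Aut_L(Ω)`.
-/

set_option autoImplicit false
universe u
open CategoryTheory CategoryTheory.Limits AlgebraicGeometry MonObj

namespace Groth.Agent.Sga7.H753.BaseExt

variable (K L Ω : Type u) [Field K] [Field L] [Field Ω] [Algebra K L] [Algebra K Ω] [Algebra L Ω]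
  [IsScalarTower K L Ω]

/-- the morphism of spectra of `K → L`. -/
noncomputable abbrev fKL : Spec (CommRingCat.of L) ⟶ Spec (CommRingCat.of K) :=
  Spec.map (CommRingCat.ofHom (algebraMap K L))

/-- `Spec Ω` over `Spec K` via `Spec L`. -/
noncomputable def ι₀ : SGA7.pt (K := K) Ω ⟶ (Over.map (fKL K L)).obj (SGA7.pt (K := L) Ω) :=
  Over.homMk (𝟙 _) (by
    dsimp [fKL]
    rw [Category.id_comp, ← Spec.map_comp, ← CommRingCat.ofHom_comp, ← IsScalarTower.algebraMap_eq])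

/-- its inverse. -/
noncomputable def ι₁ : (Over.map (fKL K L)).obj (SGA7.pt (K := L) Ω) ⟶ SGA7.pt (K := K) Ω :=
  Over.homMk (𝟙 _) (by
    dsimp [fKL]
    rw [Category.id_comp, ← Spec.map_comp, ← CommRingCat.ofHom_comp, ← IsScalarTower.algebraMap_eq])

lemma ι₀_ι₁ : ι₀ K L Ω ≫ ι₁ K L Ω = 𝟙 _ := by
  ext1
  simp [ι₀, ι₁]

lemma ι₁_ι₀ : ι₁ K L Ω ≫ ι₀ K L Ω = 𝟙 _ := by
  ext1
  simp [ι₀, ι₁]

variable (A : Over (Spec (CommRingCat.of K))) [GrpObj A]

/-- The bijection `A_L(Ω) ≃ A(Ω)`, multiplicative. -/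
noncomputable def ptsEquiv : SGA7.Pts (K := L) Ω (Red.bc (fKL K L) A) ≃* SGA7.Pts (K := K) Ω A :=
  MulEquiv.mk'
    { toFun := fun x => ι₀ K L Ω ≫ ((Over.mapPullbackAdj (fKL K L)).homEquiv _ A).symm x
      invFun := fun y => (Over.mapPullbackAdj (fKL K L)).homEquiv _ A (ι₁ K L Ω ≫ y)
      left_inv := fun x => by
        dsimp only
        rw [← Category.assoc, ι₁_ι₀, Category.id_comp, Equiv.apply_symm_apply]
      right_inv := fun y => by
        dsimp only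
        rw [Equiv.symm_apply_apply, ← Category.assoc, ι₀_ι₁, Category.id_comp] }
    (fun x y => by
      dsimp only [Equiv.coe_fn_mk]
      rw [← MonObj.comp_mul]
      congr 1
      exact Groth.Agent.Sga67.TorsionLift.homEquiv_symm_mul (Over.mapPullbackAdj (fKL K L)) x y)

variable {K L Ω A}

lemma ptsEquiv_apply (x : SGA7.Pts (K := L) Ω (Red.bc (fKL K L) A)) :
    ptsEquiv K L Ω A x = ι₀ K L Ω ≫ ((Over.mapPullbackAdj (fKL K L)).homEquiv _ A).symm x := rfl

lemma ptsEquiv_galAct (τ : Ω ≃ₐ[L] Ω) (x : SGA7.Pts (K := L) Ω (Red.bc (fKL K L) A)) :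
    ptsEquiv K L Ω A (SGA7.galAct τ x) = SGA7.galAct (τ.restrictScalars K) (ptsEquiv K L Ω A x) := by
  rw [ptsEquiv_apply, ptsEquiv_apply, SGA7.galAct, SGA7.galAct,
    (Over.mapPullbackAdj (fKL K L)).homEquiv_naturality_left_symm, ← Category.assoc, ← Category.assoc]
  congr 1

lemma ptsEquiv_dev (τ : Ω ≃ₐ[L] Ω) (x : SGA7.Pts (K := L) Ω (Red.bc (fKL K L) A)) :
    ptsEquiv K L Ω A (SGA7.dev τ x) = SGA7.dev (τ.restrictScalars K) (ptsEquiv K L Ω A x) := by
  rw [SGA7.dev, SGA7.dev, map_mul, map_inv, ptsEquiv_galAct]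

lemma ptsEquiv_dev_iterate (τ : Ω ≃ₐ[L] Ω) (m : ℕ) (x : SGA7.Pts (K := L) Ω (Red.bc (fKL K L) A)) :
    ptsEquiv K L Ω A ((SGA7.dev τ)^[m] x) = (SGA7.dev (τ.restrictScalars K))^[m] (ptsEquiv K L Ω A x) := by
  induction m with
  | zero => rfl
  | succ m ih => rw [Function.iterate_succ_apply', Function.iterate_succ_apply', ptsEquiv_dev, ih]

/-- Unipotence of `τ` on the `ℓ`-power torsion, for `A_L` and for `A`. -/
lemma unipotent_iff (τ : Ω ≃ₐ[L] Ω) (ℓ m : ℕ) :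
    (∀ (ν : ℕ) (x : SGA7.Pts (K := L) Ω (Red.bc (fKL K L) A)), x ^ (ℓ ^ ν) = 1 → (SGA7.dev τ)^[m] x = 1) ↔
      ∀ (ν : ℕ) (x : SGA7.Pts (K := K) Ω A), x ^ (ℓ ^ ν) = 1 → (SGA7.dev (τ.restrictScalars K))^[m] x = 1 := by
  constructor
  · intro h ν x hx
    obtain ⟨y, rfl⟩ := (ptsEquiv K L Ω A).surjective x
    rw [← ptsEquiv_dev_iterate, h ν y, map_one]
    apply (ptsEquiv K L Ω A).injective
    rw [map_pow, hx, map_one]
  · intro h ν x hx
    apply (ptsEquiv K L Ω A).injective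
    rw [ptsEquiv_dev_iterate, map_one]
    apply h ν
    rw [← map_pow, hx, map_one]

end Groth.Agent.Sga7.H753.BaseExt
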