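import Groth.Agent.Sga7.H753.Core
import Mathlib.AlgebraicGeometry.Geometrically.Integral

/-!
# S4073 from S4049 and S4050 (conditional form)
-/

set_option autoImplicit false
set_option linter.unusedSectionVars false

universe u

open CategoryTheory CategoryTheory.Limits AlgebraicGeometry MonObj

namespace Groth.Agent.Sga7.H753.Cond

open Wild WildFix Unip BaseExt Core

/-- The statement of S4049 (universe `u`). -/
def Stmt4049 : Prop :=
  ∀ (R K Ω : Type u) [CommRing R] [IsDomain R] [IsDiscreteValuationRing R] [Field K]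
    [Algebra R K] [IsFractionRing R K] [Field Ω] [Algebra K Ω] [IsSepClosure K Ω]
    (W : ValuationSubring Ω) (_ : SGA7.LiesOver K R W)
    (ℓ : ℕ) (_ : ℓ.Prime) (_ : (ℓ : IsLocalRing.ResidueField R) ≠ 0)
    (A : Over (Spec (CommRingCat.of K))) [GrpObj A] [IsProper A.hom] [GeometricallyIntegral A.hom],
    SGA7.HasSemistableReduction R K A ↔ SGA7.InertiaUnipotentOn W A ℓ

/-- The statement of S4050 (universe `u`). -/
def Stmt4050 : Prop :=
  ∀ (R K Ω : Type u) [CommRing R] [IsDomain R] [IsDiscreteValuationRing R] [Field K]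
    [Algebra R K] [IsFractionRing R K] [Field Ω] [Algebra K Ω] [IsSepClosure K Ω]
    (W : ValuationSubring Ω) (_ : SGA7.LiesOver K R W)
    (ℓ : ℕ) (_ : ℓ.Prime) (_ : (ℓ : IsLocalRing.ResidueField R) ≠ 0)
    (A : Over (Spec (CommRingCat.of K))) [GrpObj A] [IsProper A.hom] [GeometricallyIntegral A.hom],
    ∃ π' : OpenSubgroup (Ω ≃ₐ[K] Ω), ∀ (ν : ℕ) (σ τ : Ω ≃ₐ[K] Ω), σ ∈ π' → τ ∈ π' →
      SGA7.IsInertia W σ → SGA7.IsInertia W τ →
        ∀ x : SGA7.Pts Ω A, x ^ (ℓ ^ ν) = 1 → SGA7.dev σ (SGA7.dev τ x) = 1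

/-- Every automorphism of `Ω` fixing `L` is the restriction of scalars of an `L`-automorphism. -/
theorem exists_restrictScalars {K Ω : Type u} [Field K] [Field Ω] [Algebra K Ω] (L : IntermediateField K Ω)
    {σ : Ω ≃ₐ[K] Ω} (hσ : σ ∈ L.fixingSubgroup) : ∃ σ' : Ω ≃ₐ[L] Ω, σ'.restrictScalars K = σ := by
  refine ⟨AlgEquiv.ofRingEquiv (f := σ.toRingEquiv) (fun x => ?_), ?_⟩
  · exact (IntermediateField.mem_fixingSubgroup_iff L σ).1 hσ x x.2
  · ext x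
    rfl

theorem restrictScalars_mem {K Ω : Type u} [Field K] [Field Ω] [Algebra K Ω] (L : IntermediateField K Ω)
    (σ : Ω ≃ₐ[L] Ω) : σ.restrictScalars K ∈ L.fixingSubgroup := by
  rw [IntermediateField.mem_fixingSubgroup_iff]
  intro x hx
  exact σ.commutes ⟨x, hx⟩

/-- One direction. -/
theorem unip_of_unip (h49 : Stmt4049.{u}) (h50 : Stmt4050.{u})
    (R K Ω : Type u) [CommRing R] [IsDomain R] [IsDiscreteValuationRing R] [Field K]
    [Algebra R K] [IsFractionRing R K] [Field Ω] [Algebra K Ω] [IsSepClosure K Ω]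
    (W : ValuationSubring Ω) (hW : SGA7.LiesOver K R W)
    (ℓ ℓ' : ℕ) (hℓ : ℓ.Prime) (hℓ' : ℓ'.Prime) (hℓp : (ℓ : IsLocalRing.ResidueField R) ≠ 0)
    (hℓ'p : (ℓ' : IsLocalRing.ResidueField R) ≠ 0)
    (A : Over (Spec (CommRingCat.of K))) [GrpObj A] [IsProper A.hom] [GeometricallyIntegral A.hom]
    (σ : Ω ≃ₐ[K] Ω) (hσ : SGA7.IsInertia W σ)
    (h : ∃ m : ℕ, ∀ (ν : ℕ) (x : SGA7.Pts Ω A), x ^ (ℓ ^ ν) = 1 → (SGA7.dev σ)^[m] x = 1) :
    ∃ m : ℕ, ∀ (ν : ℕ) (x : SGA7.Pts Ω A), x ^ (ℓ' ^ ν) = 1 → (SGA7.dev σ)^[m] x = 1 := by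
  have hAc : IsCommMonObj A := isCommMonObj_of_isProper_of_geometricallyIntegral A
  obtain ⟨U, hU⟩ := h50 R K Ω W hW ℓ hℓ hℓp A
  have hv := Core.val_natCast W hW hℓp
  have hv' := Core.val_natCast W hW hℓ'p
  obtain ⟨L, hLf, hσL, hL⟩ := exists_field (A := A) hv U (fun ν c hc hcI x hx => hU ν c c hc hc hcI hcI x hx) σ hσ
    ((unip_iff σ).2 h)
  have hdvr := isDVR_tr (R := R) W L hW
  have hsep : IsSepClosure L Ω := ⟨IsSepClosure.sep_closed K, Algebra.isSeparable_tower_top_of_isSeparable K L Ω⟩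
  have hLO := liesOver_tr W L
  have hres := natCast_residue_tr W L hv
  have hres' := natCast_residue_tr W L hv'
  let AL : Over (Spec (CommRingCat.of L)) := Red.bc (fKL K L) A
  have hP : IsProper AL.hom := by
    dsimp [AL]
    infer_instance
  have hG : GeometricallyIntegral AL.hom := by
    dsimp [AL]
    infer_instance
  have e1 := h49 (tr W L) L Ω W hLO ℓ hℓ hres AL
  have e2 := h49 (tr W L) L Ω W hLO ℓ' hℓ' hres' AL
  have h1 : SGA7.InertiaUnipotentOn W AL ℓ := by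
    intro τ hτ
    have h2 : SGA7.IsInertia W (τ.restrictScalars K) := hτ
    obtain ⟨m, hm⟩ := (unip_iff _).1 (hL _ (restrictScalars_mem L τ) h2)
    exact ⟨m, (unipotent_iff τ ℓ m).2 hm⟩
  have h3 := e2.1 (e1.2 h1)
  obtain ⟨σ', rfl⟩ := exists_restrictScalars L hσL
  obtain ⟨m, hm⟩ := h3 σ' hσ
  exact ⟨m, (unipotent_iff σ' ℓ' m).1 hm⟩

theorem of_S4049_S4050 (h49 : Stmt4049.{u}) (h50 : Stmt4050.{u})
    (R K Ω : Type u) [CommRing R] [IsDomain R] [IsDiscreteValuationRing R] [Field K]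
    [Algebra R K] [IsFractionRing R K] [Field Ω] [Algebra K Ω] [IsSepClosure K Ω]
    (W : ValuationSubring Ω) (hW : SGA7.LiesOver K R W)
    (ℓ ℓ' : ℕ) (hℓ : ℓ.Prime) (hℓ' : ℓ'.Prime) (hℓp : (ℓ : IsLocalRing.ResidueField R) ≠ 0)
    (hℓ'p : (ℓ' : IsLocalRing.ResidueField R) ≠ 0)
    (A : Over (Spec (CommRingCat.of K))) [GrpObj A] [IsProper A.hom] [GeometricallyIntegral A.hom]
    (σ : Ω ≃ₐ[K] Ω) (hσ : SGA7.IsInertia W σ) :
    (∃ m : ℕ, ∀ (ν : ℕ) (x : SGA7.Pts Ω A), x ^ (ℓ ^ ν) = 1 → (SGA7.dev σ)^[m] x = 1) ↔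
      ∃ m : ℕ, ∀ (ν : ℕ) (x : SGA7.Pts Ω A), x ^ (ℓ' ^ ν) = 1 → (SGA7.dev σ)^[m] x = 1 :=
  ⟨unip_of_unip h49 h50 R K Ω W hW ℓ ℓ' hℓ hℓ' hℓp hℓ'p A σ hσ,
    unip_of_unip h49 h50 R K Ω W hW ℓ' ℓ hℓ' hℓ hℓ'p hℓp A σ hσ⟩

end Groth.Agent.Sga7.H753.Cond
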