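import Groth.Agent.Sga7.H753.Unip
import Groth.Agent.Sga7.H753.BaseExt
import Groth.Agent.Etalg.RamDVR2
import Mathlib.FieldTheory.Galois.Infinite
import Mathlib.FieldTheory.Galois.Profinite
import Mathlib.FieldTheory.IsSepClosed

/-!
# Unipotent inertia elements over a finite extension

Given a finite Galois level over which inertia acts with level two on the `ℓ`-power torsion, and an inertia element
`σ` acting unipotently, there is a finite extension `L` of `K`, fixed by `σ`, over which all of inertia acts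
unipotently.
-/

set_option autoImplicit false
set_option linter.unusedSectionVars false

universe u

open CategoryTheory AlgebraicGeometry MonObj

namespace Groth.Agent.Sga7.H753.Core

open Wild WildFix Unip BaseExt

section pts

variable {K Ω : Type u} [Field K] [Field Ω] [Algebra K Ω] {A : Over (Spec (CommRingCat.of K))} [GrpObj A]
  [IsCommMonObj A] {ℓ : ℕ}

/-- A level two element has `ℓ ^ ν`-th power trivial on the `ℓ ^ ν`-torsion. -/
theorem galAct_pow_eq {c : Ω ≃ₐ[K] Ω}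
    (h2 : ∀ (ν : ℕ) (x : SGA7.Pts Ω A), x ^ (ℓ ^ ν) = 1 → SGA7.dev c (SGA7.dev c x) = 1)
    {ν : ℕ} {x : SGA7.Pts Ω A} (hx : x ^ (ℓ ^ ν) = 1) : SGA7.galAct (c ^ ℓ ^ ν) x = x := by
  have hsq : (galTors A ℓ c - 1) * (galTors A ℓ c - 1) = 0 := by
    rw [← pow_two]
    refine DFunLike.ext _ _ fun y => Subtype.ext ?_
    rw [coe_sub_one_pow]
    obtain ⟨y, μ', hy⟩ := y
    exact h2 μ' _ hy
  have hpow : ∀ n : ℕ, galTors A ℓ (c ^ n) = 1 + n • (galTors A ℓ c - 1) := by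
    intro n
    induction n with
    | zero => simp
    | succ n ih =>
      rw [pow_succ, map_mul, ih]
      have h3 : galTors A ℓ c = 1 + (galTors A ℓ c - 1) := by abel
      conv_lhs => rw [h3]
      rw [add_sub_cancel_left, _root_.add_mul, _root_.one_mul, _root_.mul_add, _root_.mul_one, smul_mul_assoc, hsq,
        smul_zero, _root_.add_zero, add_smul, one_smul]
      abel
  have h4 := DFunLike.congr_fun (hpow (ℓ ^ ν)) (⟨Additive.ofMul x, ν, hx⟩ : tors (SGA7.Pts Ω A) ℓ)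
  have h5 := congrArg (fun y : tors (SGA7.Pts Ω A) ℓ => (y : Additive (SGA7.Pts Ω A))) h4
  rw [coe_galTors] at h5
  have h6 : ((((1 : AddMonoid.End (tors (SGA7.Pts Ω A) ℓ)) + (ℓ ^ ν) • (galTors A ℓ c - 1)) ⟨Additive.ofMul x, ν, hx⟩ :
      tors (SGA7.Pts Ω A) ℓ) : Additive (SGA7.Pts Ω A)) = Additive.ofMul x := by
    have h7 : ((1 : AddMonoid.End (tors (SGA7.Pts Ω A) ℓ)) + (ℓ ^ ν) • (galTors A ℓ c - 1)) ⟨Additive.ofMul x, ν, hx⟩ =
        (⟨Additive.ofMul x, ν, hx⟩ : tors (SGA7.Pts Ω A) ℓ) +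
          (galTors A ℓ c - 1) ((ℓ ^ ν) • (⟨Additive.ofMul x, ν, hx⟩ : tors (SGA7.Pts Ω A) ℓ)) := by
      rw [map_nsmul]
      rfl
    rw [h7]
    have h8 : (ℓ ^ ν) • (⟨Additive.ofMul x, ν, hx⟩ : tors (SGA7.Pts Ω A) ℓ) = 0 := Subtype.ext hx
    rw [h8, map_zero, _root_.add_zero]
  rw [h6] at h5
  exact h5

end pts

section main

variable {K Ω : Type u} [Field K] [Field Ω] [Algebra K Ω] [IsGalois K Ω] {A : Over (Spec (CommRingCat.of K))} [GrpObj A]
  [IsCommMonObj A] {ℓ : ℕ} {W : ValuationSubring Ω}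

/-- Commutators of an inertia element with inertia elements of a normal subgroup of level two act trivially. -/
theorem commute_galTors (hℓ : W.valuation (ℓ : Ω) = 1) (U₀ : Subgroup (Ω ≃ₐ[K] Ω)) [U₀.Normal]
    (h2 : ∀ (ν : ℕ) (c : Ω ≃ₐ[K] Ω), c ∈ U₀ → SGA7.IsInertia W c →
      ∀ x : SGA7.Pts Ω A, x ^ (ℓ ^ ν) = 1 → SGA7.dev c (SGA7.dev c x) = 1)
    {u σ : Ω ≃ₐ[K] Ω} (hu : u ∈ U₀) (huI : SGA7.IsInertia W u) (hσ : SGA7.IsInertia W σ) :
    Commute (galTors A ℓ u) (galTors A ℓ σ) := by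
  apply commute_of_fix
  intro ν x hx
  have hcI : SGA7.IsInertia W (u * σ * u⁻¹ * σ⁻¹) :=
    inertia_mul (inertia_mul (inertia_mul huI hσ) (inertia_inv huI)) (inertia_inv hσ)
  have hcU : u * σ * u⁻¹ * σ⁻¹ ∈ U₀ := by
    rw [_root_.mul_assoc, _root_.mul_assoc]
    apply U₀.mul_mem hu
    rw [← _root_.mul_assoc]
    exact Subgroup.Normal.conj_mem inferInstance _ (U₀.inv_mem hu) _
  apply wild_fix hcI (isWild_commutator huI hσ) hℓ ν
  exact galAct_pow_eq (fun μ' y hy => h2 μ' _ hcU hcI y hy) hx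

/-- The finite extension over which all of inertia acts unipotently. -/
theorem exists_field (hℓ : W.valuation (ℓ : Ω) = 1) (U : OpenSubgroup (Ω ≃ₐ[K] Ω))
    (h2 : ∀ (ν : ℕ) (c : Ω ≃ₐ[K] Ω), c ∈ U → SGA7.IsInertia W c →
      ∀ x : SGA7.Pts Ω A, x ^ (ℓ ^ ν) = 1 → SGA7.dev c (SGA7.dev c x) = 1)
    (σ : Ω ≃ₐ[K] Ω) (hσ : SGA7.IsInertia W σ) (hσu : Unip (galTors A ℓ) σ) :
    ∃ L : IntermediateField K Ω, FiniteDimensional K L ∧ σ ∈ L.fixingSubgroup ∧
      ∀ τ : Ω ≃ₐ[K] Ω, τ ∈ L.fixingSubgroup → SGA7.IsInertia W τ → Unip (galTors A ℓ) τ := by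
  obtain ⟨E, hEf, hEn, hE⟩ := (krullTopology_mem_nhds_one_iff_of_normal K Ω (U : Set (Ω ≃ₐ[K] Ω))).1
    (U.isOpen.mem_nhds U.one_mem)
  have hEg : IsGalois K E := ⟨⟩
  have hN : E.fixingSubgroup.Normal := (InfiniteGalois.normal_iff_isGalois E).2 hEg
  let V : Subgroup (Ω ≃ₐ[K] Ω) := E.fixingSubgroup ⊔ Subgroup.zpowers σ
  have hVo : IsOpen (V : Set (Ω ≃ₐ[K] Ω)) :=
    Subgroup.isOpen_mono (H₁ := E.fixingSubgroup) le_sup_left E.fixingSubgroup_isOpen
  have hVc : IsClosed (V : Set (Ω ≃ₐ[K] Ω)) := Subgroup.isClosed_of_isOpen _ hVo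
  have hfix : (IntermediateField.fixedField V).fixingSubgroup = V :=
    InfiniteGalois.fixingSubgroup_fixedField (k := K) (K := Ω) ⟨V, hVc⟩
  refine ⟨IntermediateField.fixedField V, ?_, ?_, ?_⟩
  · rw [← InfiniteGalois.isOpen_iff_finite]
    rw [hfix]
    exact hVo
  · rw [hfix]
    exact (le_sup_right : Subgroup.zpowers σ ≤ V) (Subgroup.mem_zpowers σ)
  · intro τ hτ hτI
    rw [hfix] at hτ
    have h3 : τ ∈ ((V : Subgroup (Ω ≃ₐ[K] Ω)) : Set (Ω ≃ₐ[K] Ω)) := hτ
    rw [Subgroup.normal_mul] at h3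
    obtain ⟨u, hu, s, hs, rfl⟩ := h3
    obtain ⟨n, rfl⟩ := Subgroup.mem_zpowers_iff.1 hs
    dsimp only at hτI ⊢
    have hsI : SGA7.IsInertia W (σ ^ n) := inertia_zpow hσ n
    have huI : SGA7.IsInertia W u := by
      have h4 : u = (u * σ ^ n) * (σ ^ n)⁻¹ := by group
      rw [h4]
      exact inertia_mul hτI (inertia_inv hsI)
    refine Unip.mul ?_ ?_ (hσu.zpow n)
    · exact commute_galTors hℓ E.fixingSubgroup
        (fun ν c hc hcI x hx => h2 ν c (hE hc) hcI x hx) hu huI hsI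
    · rw [unip_iff]
      exact ⟨2, fun ν x hx => h2 ν u (hE hu) huI x hx⟩

end main

section trace

variable {R K Ω : Type u} [CommRing R] [IsDomain R] [IsDiscreteValuationRing R] [Field K] [Algebra R K]
  [IsFractionRing R K] [Field Ω] [Algebra K Ω] (W : ValuationSubring Ω) (L : IntermediateField K Ω)

/-- The trace on `L` of the valuation ring. -/
abbrev tr : ValuationSubring L := W.comap (algebraMap L Ω)

theorem mem_tr {x : L} : x ∈ tr W L ↔ (x : Ω) ∈ W := Iff.rfl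

theorem tr_val_lt_one_iff {x : L} : (tr W L).valuation x < 1 ↔ W.valuation (x : Ω) < 1 := by
  rcases eq_or_ne x 0 with rfl | hx
  · simp
  have hx' : ((x : L) : Ω) ≠ 0 := fun h => hx (Subtype.ext h)
  have h1 : ∀ {F : Type u} [Field F] (V : ValuationSubring F) (y : F), y ≠ 0 →
      (V.valuation y < 1 ↔ y⁻¹ ∉ V) := by
    intro F _ V y hy
    have h2 : V.valuation y ≠ 0 := (Valuation.ne_zero_iff _).2 hy
    rw [← ValuationSubring.valuation_le_one_iff, map_inv₀, not_le, one_lt_inv₀ (zero_lt_iff.2 h2)]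
  rw [h1 _ _ hx, h1 _ _ hx']
  rfl

variable (R) in
theorem dominates (hW : SGA7.LiesOver K R W) :
    EtRam.Dominates R ((algebraMap K L).comp (algebraMap R K)) (tr W L) := by
  refine ⟨fun a => hW.1 a, fun a ha => ?_⟩
  rw [tr_val_lt_one_iff]
  exact hW.2 a ha

include R in
theorem isDVR_tr (hW : SGA7.LiesOver K R W) [FiniteDimensional K L] : IsDiscreteValuationRing (tr W L) :=
  Groth.Agent.Etalg.RamDVR2.isDVR_of_dominates (dominates R W L hW)

theorem liesOver_tr [IsLocalRing (tr W L)] : SGA7.LiesOver L (tr W L) W := by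
  refine ⟨fun r => r.2, fun r hr => ?_⟩
  have h1 : (tr W L).valuation (r : L) < 1 := (ValuationSubring.valuation_lt_one_iff _ _).1 hr
  exact (tr_val_lt_one_iff W L).1 h1

theorem val_natCast (hW : SGA7.LiesOver K R W) {ℓ : ℕ} (h : (ℓ : IsLocalRing.ResidueField R) ≠ 0) :
    W.valuation (ℓ : Ω) = 1 := by
  have h1 : IsUnit (ℓ : R) := by
    by_contra hn
    apply h
    rw [← map_natCast (IsLocalRing.residue R), IsLocalRing.residue_eq_zero_iff]
    exact hn
  obtain ⟨c, hc⟩ := h1.exists_right_inv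
  have h2 : ∀ r : R, W.valuation (algebraMap K Ω (algebraMap R K r)) ≤ 1 := fun r =>
    (W.valuation_le_one_iff _).2 (hW.1 r)
  have h3 : W.valuation (ℓ : Ω) * W.valuation (algebraMap K Ω (algebraMap R K c)) = 1 := by
    have h4 : (ℓ : Ω) = algebraMap K Ω (algebraMap R K (ℓ : R)) := by
      rw [map_natCast, map_natCast]
    rw [h4, ← map_mul, ← map_mul, ← map_mul, hc, map_one, map_one, map_one]
  apply le_antisymm
  · have h4 := h2 (ℓ : R)
    rwa [map_natCast, map_natCast] at h4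
  · calc 1 = W.valuation (ℓ : Ω) * W.valuation (algebraMap K Ω (algebraMap R K c)) := h3.symm
      _ ≤ W.valuation (ℓ : Ω) * 1 := by gcongr; exact h2 c
      _ = _ := _root_.mul_one _

theorem natCast_residue_tr [IsLocalRing (tr W L)] {ℓ : ℕ} (h : W.valuation (ℓ : Ω) = 1) :
    (ℓ : IsLocalRing.ResidueField (tr W L)) ≠ 0 := by
  intro h0
  rw [← map_natCast (IsLocalRing.residue (tr W L)), IsLocalRing.residue_eq_zero_iff] at h0
  have h1 : (tr W L).valuation ((ℓ : tr W L) : L) < 1 := (ValuationSubring.valuation_lt_one_iff _ _).1 h0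
  rw [tr_val_lt_one_iff] at h1
  have h2 : ((((ℓ : tr W L) : L)) : Ω) = (ℓ : Ω) := by
    have : ((ℓ : tr W L) : L) = (ℓ : L) := map_natCast (tr W L).subtype ℓ
    rw [this]
    exact map_natCast (algebraMap L Ω) ℓ
  rw [h2, h] at h1
  exact lt_irrefl _ h1

end trace

end Groth.Agent.Sga7.H753.Core
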