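import Groth.Agent.Sga7.H753.Wild
import Groth.Prelude.Def_SGA7IX
import Mathlib.AlgebraicGeometry.ResidueField

/-!
# Wild automorphisms of `ℓ`-power order on a geometric point fix it
-/

set_option autoImplicit false
set_option linter.unusedSectionVars false

universe u

open CategoryTheory AlgebraicGeometry MonObj

namespace Groth.Agent.Sga7.H753.WildFix

open Wild

section val

variable {K Ω Γ : Type*} [Field K] [Field Ω] [Algebra K Ω] [LinearOrderedCommGroupWithZero Γ]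
  {v : Valuation Ω Γ}

theorem wild_step {τ : Ω ≃ₐ[K] Ω} (hv : ∀ x, v (τ x) = v x) {ℓ : ℕ} (hℓ : v (ℓ : Ω) = 1)
    (hτ : ∀ z, z ≠ 0 → v (τ z - z) < v z) {z : Ω} (hp : (τ ^ ℓ) z = z) : τ z = z := by
  have hvi : ∀ (i : ℕ) (y : Ω), v ((τ ^ i) y) = v y := by
    intro i y
    induction i with
    | zero => rfl
    | succ i ih => rw [pow_succ', AlgEquiv.mul_apply, hv, ih]
  have hpow : ∀ (i : ℕ) (y : Ω), y ≠ 0 → v ((τ ^ i) y - y) < v y := by
    intro i y hy0
    have hvy : v y ≠ 0 := (Valuation.ne_zero_iff v).2 hy0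
    induction i with
    | zero =>
      simp only [pow_zero, AlgEquiv.one_apply, sub_self, map_zero]
      exact zero_lt_iff.2 hvy
    | succ i ih =>
      have h1 : (τ ^ (i + 1)) y - y = (τ ((τ ^ i) y) - (τ ^ i) y) + ((τ ^ i) y - y) := by
        rw [pow_succ', AlgEquiv.mul_apply]
        ring
      rw [h1]
      refine v.map_add_lt ?_ ih
      have h2 : v ((τ ^ i) y) = v y := hvi _ _
      rw [← h2]
      apply hτ
      rw [← Valuation.ne_zero_iff v, h2]
      exact hvy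
  have hcomm : ∀ (i j : ℕ) (y : Ω), (τ ^ i) ((τ ^ j) y) = (τ ^ j) ((τ ^ i) y) := by
    intro i j y
    rw [← AlgEquiv.mul_apply, ← AlgEquiv.mul_apply, ← pow_add, ← pow_add, add_comm]
  have hshift : τ (∑ i ∈ Finset.range ℓ, (τ ^ i) z) = ∑ i ∈ Finset.range ℓ, (τ ^ i) z := by
    rw [map_sum]
    have h1 : ∀ i, τ ((τ ^ i) z) = (τ ^ (i + 1)) z := fun i => by rw [pow_succ', AlgEquiv.mul_apply]
    simp_rw [h1]
    have h2 := Finset.sum_range_succ' (fun i => (τ ^ i) z) ℓ
    have h3 := Finset.sum_range_succ (fun i => (τ ^ i) z) ℓ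
    rw [h2] at h3
    rw [hp] at h3
    simp only [pow_zero, AlgEquiv.one_apply] at h3
    exact add_right_cancel h3
  set S : Ω := ∑ i ∈ Finset.range ℓ, (τ ^ i) z with hS
  set y : Ω := ℓ • z - S with hy
  have hτS : τ S = S := hshift
  have hτiS : ∀ i : ℕ, (τ ^ i) S = S := by
    intro i
    induction i with
    | zero => rfl
    | succ i ih => rw [pow_succ', AlgEquiv.mul_apply, ih, hτS]
  have hsum : ∑ i ∈ Finset.range ℓ, (τ ^ i) y = 0 := by
    have h1 : ∀ i ∈ Finset.range ℓ, (τ ^ i) y = ℓ • (τ ^ i) z - S := by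
      intro i _
      rw [hy, map_sub, map_nsmul, hτiS]
    rw [Finset.sum_congr rfl h1, Finset.sum_sub_distrib, ← Finset.smul_sum, ← hS]
    simp
  have hy0 : y = 0 := by
    by_contra hy0
    have h1 : (ℓ : Ω) * y = - ∑ i ∈ Finset.range ℓ, ((τ ^ i) y - y) := by
      rw [Finset.sum_sub_distrib, hsum]
      simp
    have h2 : v ((ℓ : Ω) * y) < v y := by
      rw [h1, Valuation.map_neg]
      exact v.map_sum_lt ((Valuation.ne_zero_iff v).2 hy0) (fun i _ => hpow i y hy0)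
    rw [map_mul, hℓ, _root_.one_mul] at h2
    exact lt_irrefl _ h2
  have h3 : ℓ • z = S := sub_eq_zero.1 hy0
  have h4 : ℓ • τ z = ℓ • z := by rw [← map_nsmul, h3, hτS]
  have hℓ0 : (ℓ : Ω) ≠ 0 := by
    rw [← Valuation.ne_zero_iff v, hℓ]
    exact one_ne_zero
  rw [nsmul_eq_mul, nsmul_eq_mul] at h4
  exact mul_left_cancel₀ hℓ0 h4

theorem wild_trivial {τ : Ω ≃ₐ[K] Ω} (hv : ∀ x, v (τ x) = v x) {ℓ : ℕ} (hℓ : v (ℓ : Ω) = 1)
    (hτ : ∀ z, z ≠ 0 → v (τ z - z) < v z) (b : ℕ) {z : Ω} (hp : (τ ^ ℓ ^ b) z = z) : τ z = z := by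
  have hvi : ∀ (i : ℕ) (y : Ω), v ((τ ^ i) y) = v y := by
    intro i y
    induction i with
    | zero => rfl
    | succ i ih => rw [pow_succ', AlgEquiv.mul_apply, hv, ih]
  have hpow : ∀ (i : ℕ) (y : Ω), y ≠ 0 → v ((τ ^ i) y - y) < v y := by
    intro i y hy0
    have hvy : v y ≠ 0 := (Valuation.ne_zero_iff v).2 hy0
    induction i with
    | zero =>
      simp only [pow_zero, AlgEquiv.one_apply, sub_self, map_zero]
      exact zero_lt_iff.2 hvy
    | succ i ih =>
      have h1 : (τ ^ (i + 1)) y - y = (τ ((τ ^ i) y) - (τ ^ i) y) + ((τ ^ i) y - y) := by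
        rw [pow_succ', AlgEquiv.mul_apply]
        ring
      rw [h1]
      refine v.map_add_lt ?_ ih
      have h2 : v ((τ ^ i) y) = v y := hvi _ _
      rw [← h2]
      apply hτ
      rw [← Valuation.ne_zero_iff v, h2]
      exact hvy
  induction b with
  | zero => simpa using hp
  | succ b ih =>
    apply ih
    apply wild_step (τ := τ ^ ℓ ^ b) (hvi _) hℓ (hpow _)
    rw [← pow_mul, ← pow_succ]
    exact hp

end val

section pts

variable {K Ω : Type u} [Field K] [Field Ω] [Algebra K Ω] {A : Over (Spec (CommRingCat.of K))}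

theorem galAct_mul (σ τ : Ω ≃ₐ[K] Ω) (x : SGA7.Pts Ω A) :
    SGA7.galAct (σ * τ) x = SGA7.galAct σ (SGA7.galAct τ x) := by
  rw [SGA7.galAct, SGA7.galAct, SGA7.galAct, ← Category.assoc]
  congr 1
  ext1
  change Spec.map (CommRingCat.ofHom ((σ * τ : Ω ≃ₐ[K] Ω) : Ω →+* Ω)) =
    Spec.map (CommRingCat.ofHom (σ : Ω →+* Ω)) ≫ Spec.map (CommRingCat.ofHom (τ : Ω →+* Ω))
  rw [← Spec.map_comp, ← CommRingCat.ofHom_comp]
  rfl

theorem galAct_one (x : SGA7.Pts Ω A) : SGA7.galAct (1 : Ω ≃ₐ[K] Ω) x = x := by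
  rw [SGA7.galAct]
  have : SGA7.specAut (1 : Ω ≃ₐ[K] Ω) = 𝟙 _ := by
    ext1
    change Spec.map (CommRingCat.ofHom (RingHom.id Ω)) = _
    exact Spec.map_id _
  rw [this, Category.id_comp]

/-- An automorphism fixes a geometric point iff it fixes the image of its residue field. -/
theorem galAct_eq_iff (σ : Ω ≃ₐ[K] Ω) (x : SGA7.Pts Ω A) :
    SGA7.galAct σ x = x ↔ ∀ z, σ ((Scheme.SpecToEquivOfField Ω A.left x.left).2 z) =
      (Scheme.SpecToEquivOfField Ω A.left x.left).2 z := by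
  set φ := (Scheme.SpecToEquivOfField Ω A.left x.left).2 with hφ
  have hx : x.left = Spec.map φ ≫ A.left.fromSpecResidueField
      (Scheme.SpecToEquivOfField Ω A.left x.left).1 :=
    ((Scheme.SpecToEquivOfField Ω A.left).symm_apply_apply x.left).symm
  have h1 : SGA7.galAct σ x = x ↔
      Spec.map (CommRingCat.ofHom (σ : Ω →+* Ω)) ≫ x.left = x.left :=
    ⟨fun h => congrArg (fun y : SGA7.Pts Ω A => y.left) h, fun h => Over.OverMorphism.ext h⟩
  rw [h1]
  conv_lhs => rw [hx]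
  rw [← Category.assoc, cancel_mono, ← Spec.map_comp, Spec.map_inj]
  constructor
  · intro h z
    exact congrArg (fun f => f.hom z) h
  · intro h
    ext z
    exact h z

theorem wild_fix [Algebra.IsAlgebraic K Ω] {W : ValuationSubring Ω} {c : Ω ≃ₐ[K] Ω} (hc : SGA7.IsInertia W c)
    (hw : IsWild W c) {ℓ : ℕ} (hℓ : W.valuation (ℓ : Ω) = 1) (b : ℕ) {x : SGA7.Pts Ω A}
    (hx : SGA7.galAct (c ^ ℓ ^ b) x = x) : SGA7.galAct c x = x := by
  rw [galAct_eq_iff] at hx ⊢
  intro z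
  exact wild_trivial (inertia_val hc) hℓ hw b (hx z)

end pts

end Groth.Agent.Sga7.H753.WildFix
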