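import Groth.Agent.Sga7.H753.NerTwist
import Groth.Agent.Sga7.H753.BaseExt
import Groth.Agent.Sga3B.BcPts

/-!
# The semilinear endomorphism of a Néron model is a homomorphism

`k ⟶ K` fields, `R` a ring with `R ⟶ K`, `A` a group scheme over `k`, `N` a group scheme over `R` with an
isomorphism `e : N_K ≅ A_K` of group schemes. `IsTw e s t F` says that `F : N ⟶ N` is `s`-semilinear and induces on
generic fibres the automorphism `1 × t` of `A_K`.

* `exists_tw`: existence for Néron models.
* `IsTw.mul`: compatibility with the group law on points.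
-/

set_option autoImplicit false

universe u

open CategoryTheory CategoryTheory.Limits MonoidalCategory CartesianMonoidalCategory AlgebraicGeometry MonObj

namespace Groth.Agent.Sga7.H753.NerHom

open Groth.Agent.Sga7.H753.NerTwist Groth.Agent.Sga7.H753.BaseExt Groth.Agent.Sga3B.BcPts

section rho

variable {k K R : Type u} [Field k] [Field K] [Algebra k K] [CommRing R] [Algebra R K]
  {N : Over (Spec (CommRingCat.of R))} {A : Over (Spec (CommRingCat.of k))}

/-- the projection of the generic fibre to `A`. -/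
noncomputable def ρ (e : (SGA7.genFib R K).obj N ≅ Red.bc (fKL k K) A) :
    ((SGA7.genFib R K).obj N).left ⟶ A.left :=
  e.hom.left ≫ pullback.fst A.hom (fKL k K)

lemma ρ_hom (e : (SGA7.genFib R K).obj N ≅ Red.bc (fKL k K) A) :
    ρ e ≫ A.hom = ((SGA7.genFib R K).obj N).hom ≫ fKL k K := by
  rw [ρ, Category.assoc, pullback.condition, ← Category.assoc]
  congr 1
  exact Over.w e.hom

/-- a morphism to the generic fibre, as a morphism to `A`. -/
noncomputable def Φ (e : (SGA7.genFib R K).obj N ≅ Red.bc (fKL k K) A) {Q : Over (Spec (CommRingCat.of K))}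
    (X : Q ⟶ (SGA7.genFib R K).obj N) : (Over.map (fKL k K)).obj Q ⟶ A :=
  (bcEquiv (fKL k K) Q A).symm (X ≫ e.hom)

lemma Φ_injective (e : (SGA7.genFib R K).obj N ≅ Red.bc (fKL k K) A) {Q : Over (Spec (CommRingCat.of K))}
    {X Y : Q ⟶ (SGA7.genFib R K).obj N} (h : Φ e X = Φ e Y) : X = Y := by
  have h1 := (bcEquiv (fKL k K) Q A).symm.injective h
  rwa [cancel_mono] at h1

lemma Φ_left (e : (SGA7.genFib R K).obj N ≅ Red.bc (fKL k K) A) {Q : Over (Spec (CommRingCat.of K))}
    (X : Q ⟶ (SGA7.genFib R K).obj N) : (Φ e X).left = X.left ≫ ρ e := by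
  rw [Φ, bcEquiv, Adjunction.homEquiv_counit, Over.mapPullbackAdj_counit_app, Over.comp_left, ρ,
    ← Category.assoc]
  rfl

lemma Φ_mul [GrpObj N] [GrpObj A] (e : (SGA7.genFib R K).obj N ≅ Red.bc (fKL k K) A) [IsMonHom e.hom]
    {Q : Over (Spec (CommRingCat.of K))} (X Y : Q ⟶ (SGA7.genFib R K).obj N) :
    Φ e (X * Y) = Φ e X * Φ e Y := by
  rw [Φ, MonObj.mul_comp]
  exact (bcMulEquiv (fKL k K) Q A).symm.map_mul _ _

end rho

section tw

variable {k K R : Type u} [Field k] [Field K] [Algebra k K] [CommRing R] [Algebra R K]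
  {N : Over (Spec (CommRingCat.of R))} {A : Over (Spec (CommRingCat.of k))}

/-- `F` is `s`-semilinear and induces `1 × t` on the generic fibre `A_K`. -/
structure IsTw (e : (SGA7.genFib R K).obj N ≅ Red.bc (fKL k K) A) (s : R ≃+* R) (t : K ≃ₐ[k] K)
    (F : N.left ⟶ N.left) : Prop where
  hom : F ≫ N.hom = N.hom ≫ sp s
  gen : ∃ a : ((SGA7.genFib R K).obj N).left ⟶ ((SGA7.genFib R K).obj N).left,
    a ≫ ((SGA7.genFib R K).obj N).hom = ((SGA7.genFib R K).obj N).hom ≫ sp t.toRingEquiv ∧
    a ≫ ρ e = ρ e ∧ a ≫ pullback.fst N.hom (ιg R K) = pullback.fst N.hom (ιg R K) ≫ F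

lemma sp_fKL (t : K ≃ₐ[k] K) : sp t.toRingEquiv ≫ fKL k K = fKL k K := by
  rw [sp, fKL, ← Spec.map_comp, ← CommRingCat.ofHom_comp]
  congr 2
  ext x
  simp

/-- Existence of the semilinear endomorphism of a Néron model. -/
theorem exists_tw (e : (SGA7.genFib R K).obj N ≅ Red.bc (fKL k K) A) (hN : SGA7.IsNeron R K N)
    (s : R ≃+* R) (t : K ≃ₐ[k] K) (hst : ∀ r, t (algebraMap R K r) = algebraMap R K (s r)) :
    ∃ F : N.left ⟶ N.left, IsTw e s t F := by
  -- the automorphism `1 × t` of `A_K`
  let b : (Red.bc (fKL k K) A).left ⟶ (Red.bc (fKL k K) A).left :=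
    pullback.lift (pullback.fst A.hom (fKL k K)) (pullback.snd A.hom (fKL k K) ≫ sp t.toRingEquiv) (by
      rw [Category.assoc, sp_fKL, pullback.condition])
  have hb1 : b ≫ pullback.fst A.hom (fKL k K) = pullback.fst A.hom (fKL k K) := pullback.lift_fst _ _ _
  have hb2 : b ≫ (Red.bc (fKL k K) A).hom = (Red.bc (fKL k K) A).hom ≫ sp t.toRingEquiv :=
    pullback.lift_snd _ _ _
  let a : ((SGA7.genFib R K).obj N).left ⟶ ((SGA7.genFib R K).obj N).left :=
    e.hom.left ≫ b ≫ e.inv.left
  have he : e.hom.left ≫ (Red.bc (fKL k K) A).hom = ((SGA7.genFib R K).obj N).hom := Over.w e.hom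
  have he' : e.inv.left ≫ ((SGA7.genFib R K).obj N).hom = (Red.bc (fKL k K) A).hom := Over.w e.inv
  have hee : e.inv.left ≫ e.hom.left = 𝟙 _ := by
    rw [← Over.comp_left, e.inv_hom_id]
    rfl
  have ha : a ≫ ((SGA7.genFib R K).obj N).hom =
      ((SGA7.genFib R K).obj N).hom ≫ sp t.toRingEquiv := by
    show (e.hom.left ≫ b ≫ e.inv.left) ≫ _ = _
    rw [Category.assoc, Category.assoc, he', hb2, ← Category.assoc, he]
  obtain ⟨F, hF1, hF2⟩ := exists_semilinear (s := s) (t := t.toRingEquiv) hst N hN a ha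
  refine ⟨F, hF1, a, ha, ?_, hF2⟩
  show (e.hom.left ≫ b ≫ e.inv.left) ≫ (e.hom.left ≫ pullback.fst A.hom (fKL k K)) =
    e.hom.left ≫ pullback.fst A.hom (fKL k K)
  simp only [Category.assoc]
  rw [← Category.assoc e.inv.left, hee, Category.id_comp, hb1]

/-- The twist of a morphism by a semilinear endomorphism. -/
noncomputable def tw {s : R ≃+* R} {F : N.left ⟶ N.left} (hF : F ≫ N.hom = N.hom ≫ sp s)
    {T : Over (Spec (CommRingCat.of R))} (x : T ⟶ N) : Over.mk (T.hom ≫ sp s) ⟶ N :=
  Over.homMk (x.left ≫ F) (by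
    rw [Category.assoc, hF, ← Category.assoc, Over.w x]
    rfl)

variable [GrpObj N] [GrpObj A]

/-- Compatibility with the group law for smooth test objects. -/
theorem tw_mul_of_smooth (e : (SGA7.genFib R K).obj N ≅ Red.bc (fKL k K) A) [IsMonHom e.hom]
    (hN : SGA7.IsNeron R K N) (s : R ≃+* R) (t : K ≃ₐ[k] K)
    (hst : ∀ r, t (algebraMap R K r) = algebraMap R K (s r))
    {F : N.left ⟶ N.left} (hF : IsTw e s t F)
    (T : Over (Spec (CommRingCat.of R))) (hT : Smooth T.hom) (x y : T ⟶ N) :
    tw hF.hom (x * y) = tw hF.hom x * tw hF.hom y := by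
  obtain ⟨a, ha1, ha2, ha3⟩ := hF.gen
  let T' : Over (Spec (CommRingCat.of R)) := Over.mk (T.hom ≫ sp s)
  have hT' : Smooth T'.hom := by
    dsimp [T']
    infer_instance
  apply (hN.2.2.2 T' hT').1
  show (Over.pullback (ιg R K)).map (tw hF.hom (x * y)) =
    (Over.pullback (ιg R K)).map (tw hF.hom x * tw hF.hom y)
  rw [Functor.map_mul]
  -- the comparison of the generic fibres of `T` and `T'`
  have hιt := ι_sp (R := R) (K := K) (s := s) (t := t.toRingEquiv) hst
  let d : ((SGA7.genFib R K).obj T).left ⟶ ((SGA7.genFib R K).obj T').left :=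
    pullback.lift (pullback.fst T.hom (ιg R K)) (pullback.snd T.hom (ιg R K) ≫ sp t.toRingEquiv) (by
      have h1 := pullback.condition (f := T.hom) (g := ιg R K)
      dsimp [T']
      rw [← Category.assoc, h1, Category.assoc, Category.assoc, hιt])
  have hd1 : d ≫ pullback.fst T'.hom (ιg R K) = pullback.fst T.hom (ιg R K) := pullback.lift_fst _ _ _
  have hd2 : d ≫ pullback.snd T'.hom (ιg R K) = pullback.snd T.hom (ιg R K) ≫ sp t.toRingEquiv :=
    pullback.lift_snd _ _ _
  let c : ((SGA7.genFib R K).obj T').left ⟶ ((SGA7.genFib R K).obj T).left :=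
    pullback.lift (pullback.fst T'.hom (ιg R K)) (pullback.snd T'.hom (ιg R K) ≫
      sp t.toRingEquiv.symm) (by
      have h1 := pullback.condition (f := T'.hom) (g := ιg R K)
      have h2 : pullback.fst T'.hom (ιg R K) ≫ T.hom =
          (pullback.fst T'.hom (ιg R K) ≫ T'.hom) ≫ sp s.symm := by
        dsimp [T']
        rw [Category.assoc, Category.assoc, sp_symm', Category.comp_id]
      rw [h2, h1, Category.assoc, Category.assoc]
      congr 1
      rw [← cancel_epi (sp t.toRingEquiv), ← Category.assoc (sp t.toRingEquiv), hιt, Category.assoc,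
        sp_symm', ← Category.assoc, sp_symm', Category.comp_id, Category.id_comp])
  have hc1 : c ≫ pullback.fst T.hom (ιg R K) = pullback.fst T'.hom (ιg R K) := pullback.lift_fst _ _ _
  have hc2 : c ≫ pullback.snd T.hom (ιg R K) = pullback.snd T'.hom (ιg R K) ≫
      sp t.toRingEquiv.symm := pullback.lift_snd _ _ _
  have hcd : c ≫ d = 𝟙 _ := by
    apply pullback.hom_ext
    · rw [Category.assoc, hd1, hc1]
      exact (Category.id_comp _).symm
    · rw [Category.assoc, hd2, ← Category.assoc, hc2, Category.assoc, sp_symm, Category.comp_id]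
      exact (Category.id_comp _).symm
  let D : (Over.map (fKL k K)).obj ((SGA7.genFib R K).obj T) ⟶
      (Over.map (fKL k K)).obj ((SGA7.genFib R K).obj T') := Over.homMk d (by
    have h1 : d ≫ ((SGA7.genFib R K).obj T').hom =
      ((SGA7.genFib R K).obj T).hom ≫ sp t.toRingEquiv := hd2
    show d ≫ ((SGA7.genFib R K).obj T').hom ≫ fKL k K = ((SGA7.genFib R K).obj T).hom ≫ fKL k K
    rw [← Category.assoc, h1, Category.assoc, sp_fKL])
  have hDepi : ∀ {u v : (Over.map (fKL k K)).obj ((SGA7.genFib R K).obj T') ⟶ A},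
      D ≫ u = D ≫ v → u = v := by
    intro u v huv
    have h1 : d ≫ u.left = d ≫ v.left := congrArg (fun z => z.left) huv
    have h2 : c ≫ d ≫ u.left = c ≫ d ≫ v.left := by rw [h1]
    rw [← Category.assoc, hcd, ← Category.assoc, hcd] at h2
    ext1
    exact (Category.id_comp _).symm.trans (h2.trans (Category.id_comp _))
  -- the key compatibility
  have key : ∀ z : T ⟶ N, D ≫ Φ e ((Over.pullback (ιg R K)).map (tw hF.hom z)) =
      Φ e ((Over.pullback (ιg R K)).map z) := by
    intro z
    ext1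
    have h0 : (D ≫ Φ e ((Over.pullback (ιg R K)).map (tw hF.hom z))).left =
        d ≫ (Φ e ((Over.pullback (ιg R K)).map (tw hF.hom z))).left := rfl
    rw [h0, Φ_left, Φ_left]
    have h1 : d ≫ ((Over.pullback (ιg R K)).map (tw hF.hom z)).left =
        ((Over.pullback (ιg R K)).map z).left ≫ a := by
      apply pullback.hom_ext
      · have h2 : ((Over.pullback (ιg R K)).map (tw hF.hom z)).left ≫ pullback.fst N.hom (ιg R K) =
            pullback.fst T'.hom (ιg R K) ≫ z.left ≫ F := pullback.lift_fst _ _ _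
        have h3 : ((Over.pullback (ιg R K)).map z).left ≫ pullback.fst N.hom (ιg R K) =
            pullback.fst T.hom (ιg R K) ≫ z.left := pullback.lift_fst _ _ _
        rw [Category.assoc, h2, Category.assoc, ha3, ← Category.assoc, hd1, ← Category.assoc,
          ← Category.assoc, h3]
      · have h2 : ((Over.pullback (ιg R K)).map (tw hF.hom z)).left ≫ pullback.snd N.hom (ιg R K) =
            pullback.snd T'.hom (ιg R K) := Over.w ((Over.pullback (ιg R K)).map (tw hF.hom z))
        have h3 : ((Over.pullback (ιg R K)).map z).left ≫ ((SGA7.genFib R K).obj N).hom =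
            pullback.snd T.hom (ιg R K) := Over.w ((Over.pullback (ιg R K)).map z)
        rw [Category.assoc, h2, hd2, Category.assoc]
        show _ = ((Over.pullback (ιg R K)).map z).left ≫ a ≫ ((SGA7.genFib R K).obj N).hom
        rw [ha1, ← Category.assoc, h3]
    rw [← Category.assoc, h1, Category.assoc, ha2]
  apply Φ_injective e
  apply hDepi
  rw [Φ_mul, MonObj.comp_mul, key, key, key, Functor.map_mul, Φ_mul]

end tw

end Groth.Agent.Sga7.H753.NerHom
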