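import Groth.Agent.Sga7.H753.NerHom

/-!
# The endomorphism of the special fibre induced by a semilinear endomorphism

`exists_psi`: `q : S' ⟶ Spec R` with `q ≫ Spec s = q`: the semilinear endomorphism `F` of `N` induces an endomorphism
of the group scheme `N ×_R S'`.
-/

set_option autoImplicit false

universe u

open CategoryTheory CategoryTheory.Limits MonoidalCategory CartesianMonoidalCategory AlgebraicGeometry MonObj

namespace Groth.Agent.Sga7.H753.NerPsi

open Groth.Agent.Sga7.H753.NerTwist Groth.Agent.Sga7.H753.BaseExt Groth.Agent.Sga3B.BcPts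
open Groth.Agent.Sga7.H753.NerHom

variable {k K R : Type u} [Field k] [Field K] [Algebra k K] [CommRing R] [Algebra R K]
  {N : Over (Spec (CommRingCat.of R))} {A : Over (Spec (CommRingCat.of k))}
  [GrpObj N] [GrpObj A]

/-- Compatibility of the twist with the group law. -/
theorem tw_mul (e : (SGA7.genFib R K).obj N ≅ Red.bc (fKL k K) A) [IsMonHom e.hom]
    (hN : SGA7.IsNeron R K N) (s : R ≃+* R) (t : K ≃ₐ[k] K)
    (hst : ∀ r, t (algebraMap R K r) = algebraMap R K (s r))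
    {F : N.left ⟶ N.left} (hF : IsTw e s t F)
    (T : Over (Spec (CommRingCat.of R))) (x y : T ⟶ N) :
    tw hF.hom (x * y) = tw hF.hom x * tw hF.hom y := by
  have hsm : Smooth N.hom := hN.1
  have hNN : Smooth (N ⊗ N).hom := by
    have h1 : (N ⊗ N).hom = pullback.fst N.hom N.hom ≫ N.hom := rfl
    rw [h1]
    infer_instance
  have h1 := tw_mul_of_smooth e hN s t hst hF (N ⊗ N) hNN (fst N N) (snd N N)
  let L : Over.mk (T.hom ≫ sp s) ⟶ Over.mk ((N ⊗ N).hom ≫ sp s) := Over.homMk (lift x y).left (by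
    have h2 := Over.w (lift x y)
    dsimp
    rw [← Category.assoc]
    exact congrArg (fun z => z ≫ sp s) h2)
  have hL : ∀ z : N ⊗ N ⟶ N, L ≫ tw hF.hom z = tw hF.hom (lift x y ≫ z) := by
    intro z
    ext1
    show (lift x y).left ≫ (z.left ≫ F) = ((lift x y) ≫ z).left ≫ F
    rw [Over.comp_left, Category.assoc]
  have h3 := hL (fst N N * snd N N)
  rw [h1, MonObj.comp_mul, hL, hL, MonObj.comp_mul, lift_fst, lift_snd] at h3
  exact h3.symm

/-- The twist for test objects on which `s` acts trivially. -/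
noncomputable def tw' {s : R ≃+* R} {F : N.left ⟶ N.left} (hF : F ≫ N.hom = N.hom ≫ sp s)
    {T : Over (Spec (CommRingCat.of R))} (hT : T.hom ≫ sp s = T.hom) (x : T ⟶ N) : T ⟶ N :=
  Over.homMk (x.left ≫ F) (by rw [Category.assoc, hF, ← Category.assoc, Over.w x, hT])

omit [GrpObj N] in
lemma tw'_left {s : R ≃+* R} {F : N.left ⟶ N.left} (hF : F ≫ N.hom = N.hom ≫ sp s)
    {T : Over (Spec (CommRingCat.of R))} (hT : T.hom ≫ sp s = T.hom) (x : T ⟶ N) :
    (tw' hF hT x).left = x.left ≫ F := rfl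

omit [GrpObj N] in
lemma comp_tw' {s : R ≃+* R} {F : N.left ⟶ N.left} (hF : F ≫ N.hom = N.hom ≫ sp s)
    {T T' : Over (Spec (CommRingCat.of R))} (hT : T.hom ≫ sp s = T.hom)
    (hT' : T'.hom ≫ sp s = T'.hom) (g : T' ⟶ T) (x : T ⟶ N) :
    g ≫ tw' hF hT x = tw' hF hT' (g ≫ x) := by
  ext1
  simp [tw'_left]

theorem tw'_mul (e : (SGA7.genFib R K).obj N ≅ Red.bc (fKL k K) A) [IsMonHom e.hom]
    (hN : SGA7.IsNeron R K N) (s : R ≃+* R) (t : K ≃ₐ[k] K)
    (hst : ∀ r, t (algebraMap R K r) = algebraMap R K (s r))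
    {F : N.left ⟶ N.left} (hF : IsTw e s t F)
    {T : Over (Spec (CommRingCat.of R))} (hT : T.hom ≫ sp s = T.hom) (x y : T ⟶ N) :
    tw' hF.hom hT (x * y) = tw' hF.hom hT x * tw' hF.hom hT y := by
  let I : T ⟶ Over.mk (T.hom ≫ sp s) := Over.homMk (𝟙 _) (by
    dsimp
    rw [Category.id_comp, hT])
  have hI : ∀ z : T ⟶ N, tw' hF.hom hT z = I ≫ tw hF.hom z := by
    intro z
    ext1
    show z.left ≫ F = 𝟙 _ ≫ (z.left ≫ F)
    rw [Category.id_comp]
  rw [hI, hI, hI, tw_mul e hN s t hst hF, MonObj.comp_mul]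

/-- The endomorphism of the base change of `N` induced by `F`. -/
noncomputable def psi {s : R ≃+* R} {F : N.left ⟶ N.left} (hF : F ≫ N.hom = N.hom ≫ sp s)
    {S' : Scheme.{u}} (q : S' ⟶ Spec (CommRingCat.of R)) (hq : q ≫ sp s = q) :
    Red.bc q N ⟶ Red.bc q N :=
  Over.homMk (pullback.lift (pullback.fst N.hom q ≫ F) (pullback.snd N.hom q) (by
    rw [Category.assoc, hF, ← Category.assoc, pullback.condition, Category.assoc, hq]))
    (pullback.lift_snd _ _ _)

omit [GrpObj N] in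
lemma psi_fst {s : R ≃+* R} {F : N.left ⟶ N.left} (hF : F ≫ N.hom = N.hom ≫ sp s)
    {S' : Scheme.{u}} (q : S' ⟶ Spec (CommRingCat.of R)) (hq : q ≫ sp s = q) :
    (psi hF q hq).left ≫ pullback.fst N.hom q = pullback.fst N.hom q ≫ F :=
  pullback.lift_fst _ _ _

omit [GrpObj N] in
lemma map_hom_sp {s : R ≃+* R} {S' : Scheme.{u}} (q : S' ⟶ Spec (CommRingCat.of R))
    (hq : q ≫ sp s = q) (T : Over S') :
    ((Over.map q).obj T).hom ≫ sp s = ((Over.map q).obj T).hom := by
  show (T.hom ≫ q) ≫ sp s = T.hom ≫ q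
  rw [Category.assoc, hq]

omit [GrpObj N] in
lemma comp_psi {s : R ≃+* R} {F : N.left ⟶ N.left} (hF : F ≫ N.hom = N.hom ≫ sp s)
    {S' : Scheme.{u}} (q : S' ⟶ Spec (CommRingCat.of R)) (hq : q ≫ sp s = q)
    {T : Over S'} (x : T ⟶ Red.bc q N) :
    (bcEquiv q T N).symm (x ≫ psi hF q hq) =
      tw' hF (map_hom_sp q hq T) ((bcEquiv q T N).symm x) := by
  have hl : ∀ y : T ⟶ Red.bc q N, ((bcEquiv q T N).symm y).left = y.left ≫ pullback.fst N.hom q := by
    intro y
    rw [bcEquiv, Adjunction.homEquiv_counit, Over.mapPullbackAdj_counit_app, Over.comp_left]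
    rfl
  ext1
  rw [tw'_left, hl, hl, Over.comp_left, Category.assoc, psi_fst, Category.assoc]

/-- The induced endomorphism is a homomorphism of group schemes. -/
theorem isMonHom_psi (e : (SGA7.genFib R K).obj N ≅ Red.bc (fKL k K) A) [IsMonHom e.hom]
    (hN : SGA7.IsNeron R K N) (s : R ≃+* R) (t : K ≃ₐ[k] K)
    (hst : ∀ r, t (algebraMap R K r) = algebraMap R K (s r))
    {F : N.left ⟶ N.left} (hF : IsTw e s t F)
    {S' : Scheme.{u}} (q : S' ⟶ Spec (CommRingCat.of R)) (hq : q ≫ sp s = q) :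
    IsMonHom (psi hF.hom q hq) := by
  have hmul : ∀ (T : Over S') (x y : T ⟶ Red.bc q N),
      (x * y) ≫ psi hF.hom q hq = (x ≫ psi hF.hom q hq) * (y ≫ psi hF.hom q hq) := by
    intro T x y
    apply (bcMulEquiv q T N).symm.injective
    rw [map_mul]
    show (bcEquiv q T N).symm _ = (bcEquiv q T N).symm _ * (bcEquiv q T N).symm _
    rw [comp_psi, comp_psi, comp_psi]
    have h1 : (bcEquiv q T N).symm (x * y) = (bcEquiv q T N).symm x * (bcEquiv q T N).symm y :=
      (bcMulEquiv q T N).symm.map_mul x y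
    rw [h1, tw'_mul e hN s t hst hF]
  have hone : (1 : 𝟙_ (Over S') ⟶ Red.bc q N) ≫ psi hF.hom q hq = 1 := by
    have h1 := hmul (𝟙_ (Over S')) 1 1
    rw [_root_.mul_one] at h1
    exact (left_eq_mul.1 h1)
  refine ⟨?_, ?_⟩
  · have h1 : (1 : 𝟙_ (Over S') ⟶ Red.bc q N) = η[Red.bc q N] := (one_eq_one _).symm
    rw [← h1]
    exact hone
  · have h1 := hmul (Red.bc q N ⊗ Red.bc q N) (fst _ _) (snd _ _)
    rw [← mul_eq_mul] at h1
    rw [h1, Hom.mul_def]
    congr 1

end Groth.Agent.Sga7.H753.NerPsi
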