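import Groth.Agent.Sga7.H753.NerPsi
import Groth.Agent.Sga7.H755.Inert

/-!
# Geometric points of a Néron model

`beta`: the group isomorphism `N(Ω) ≃ A(Ω)`, and the Galois action in terms of the semilinear endomorphism of `N`.
-/

set_option autoImplicit false
set_option linter.unusedSectionVars false

universe u

open CategoryTheory CategoryTheory.Limits MonoidalCategory CartesianMonoidalCategory AlgebraicGeometry MonObj

namespace Groth.Agent.Sga7.H753.NerPts

open Groth.Agent.Sga7.H753.NerTwist Groth.Agent.Sga7.H753.BaseExt Groth.Agent.Sga3B.BcPts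
open Groth.Agent.Sga7.H753.NerHom Groth.Agent.Sga7.H753.NerPsi
open Groth.Agent.Sga67 Groth.Agent.Sga7.H755

section general

universe v w
variable {C : Type w} [Category.{v} C] [CartesianMonoidalCategory C]

/-- precomposition with an isomorphism -/
def precomp {X Y : C} (i : X ≅ Y) (G : C) [GrpObj G] : (Y ⟶ G) ≃* (X ⟶ G) :=
  MulEquiv.mk' { toFun := fun f => i.hom ≫ f
                 invFun := fun f => i.inv ≫ f
                 left_inv := fun f => by simp
                 right_inv := fun f => by simp } (fun f g => MonObj.comp_mul i.hom f g)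

/-- postcomposition with an isomorphism of group objects -/
def postcomp {G H : C} [GrpObj G] [GrpObj H] (e : G ≅ H) [IsMonHom e.hom] (X : C) :
    (X ⟶ G) ≃* (X ⟶ H) :=
  MulEquiv.mk' { toFun := fun f => f ≫ e.hom
                 invFun := fun f => f ≫ e.inv
                 left_inv := fun f => by simp
                 right_inv := fun f => by simp } (fun f g => MonObj.mul_comp f g e.hom)

end general

variable {k K R Ω : Type u} [Field k] [Field K] [Algebra k K] [CommRing R] [Algebra R K]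
  [Field Ω] [Algebra k Ω] [Algebra K Ω] [IsScalarTower k K Ω] [Algebra R Ω] [IsScalarTower R K Ω]
  {N : Over (Spec (CommRingCat.of R))} {A : Over (Spec (CommRingCat.of k))}

variable (R K Ω) in
/-- `Spec Ω` over `Spec R`, directly and through `Spec K`. -/
noncomputable def iso1 : (Over.map (Inert.fRK R K)).obj (SGA7.pt Ω) ≅ TorsionLift.sp R Ω :=
  ⟨Inert.ι₁ R K Ω, Inert.ι₀ R K Ω, Inert.ι₁_ι₀, Inert.ι₀_ι₁⟩

/-- the point of the generic fibre. -/
noncomputable def X (x : TorsionLift.sp R Ω ⟶ N) : SGA7.pt Ω ⟶ (SGA7.genFib R K).obj N :=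
  bcEquiv (Inert.fRK R K) (SGA7.pt Ω) N (Inert.ι₁ R K Ω ≫ x)

lemma und_X (x : TorsionLift.sp R Ω ⟶ N) : Inert.und (X (K := K) x) = x := by
  rw [Inert.und]
  have h1 : ((Over.mapPullbackAdj (Inert.fRK R K)).homEquiv (SGA7.pt Ω) N).symm (X (K := K) x) =
      Inert.ι₁ R K Ω ≫ x := (bcEquiv (Inert.fRK R K) (SGA7.pt Ω) N).symm_apply_apply _
  rw [h1, ← Category.assoc, Inert.ι₀_ι₁, Category.id_comp]

lemma X_fst (x : TorsionLift.sp R Ω ⟶ N) :
    (X (K := K) x).left ≫ pullback.fst N.hom (Inert.fRK R K) = x.left := by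
  rw [← Inert.und_left, und_X]

lemma X_snd (x : TorsionLift.sp R Ω ⟶ N) :
    (X (K := K) x).left ≫ pullback.snd N.hom (Inert.fRK R K) =
      Spec.map (CommRingCat.ofHom (algebraMap K Ω)) := Over.w (X (K := K) x)

variable [GrpObj N] [GrpObj A] (e : (SGA7.genFib R K).obj N ≅ Red.bc (fKL k K) A) [IsMonHom e.hom]

variable (Ω) in
/-- `N(Ω) ≃ A(Ω)`. -/
noncomputable def beta : (TorsionLift.sp R Ω ⟶ N) ≃* SGA7.Pts (K := k) Ω A :=
  (precomp (iso1 K R Ω) N).trans ((bcMulEquiv (Inert.fRK R K) (SGA7.pt Ω) N).trans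
    ((postcomp e (SGA7.pt Ω)).trans (ptsEquiv k K Ω A)))

lemma beta_apply (x : TorsionLift.sp R Ω ⟶ N) :
    beta Ω e x = ptsEquiv k K Ω A (X x ≫ e.hom) := rfl

lemma beta_left (x : TorsionLift.sp R Ω ⟶ N) : (beta Ω e x).left = (X (K := K) x).left ≫ ρ e := by
  rw [beta_apply, ptsEquiv_apply]
  have h1 : ((Over.mapPullbackAdj (fKL k K)).homEquiv _ A).symm (X (K := K) x ≫ e.hom) =
      Φ e (X (K := K) x) := rfl
  rw [h1, Over.comp_left, Φ_left]
  exact Category.id_comp _

/-- The Galois action through the semilinear endomorphism. -/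
theorem beta_galAct {s : R ≃+* R} {t : K ≃ₐ[k] K} {F : N.left ⟶ N.left} (hF : IsTw e s t F)
    (σ : Ω ≃ₐ[k] Ω) (hσt : ∀ x : K, σ (algebraMap K Ω (t x)) = algebraMap K Ω x)
    (x x' : TorsionLift.sp R Ω ⟶ N)
    (hx' : x'.left = Spec.map (CommRingCat.ofHom (σ : Ω →+* Ω)) ≫ x.left ≫ F) :
    beta Ω e x' = SGA7.galAct σ (beta Ω e x) := by
  obtain ⟨a, ha1, ha2, ha3⟩ := hF.gen
  have h1 : (X (K := K) x').left = Spec.map (CommRingCat.ofHom (σ : Ω →+* Ω)) ≫
      (X (K := K) x).left ≫ a := by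
    apply pullback.hom_ext
    · rw [X_fst, hx', Category.assoc, Category.assoc]
      have h2 : a ≫ pullback.fst N.hom (Inert.fRK R K) = pullback.fst N.hom (Inert.fRK R K) ≫ F := ha3
      rw [h2, ← Category.assoc (X (K := K) x).left, X_fst]
    · rw [X_snd, Category.assoc, Category.assoc]
      have h2 : a ≫ pullback.snd N.hom (Inert.fRK R K) =
        pullback.snd N.hom (Inert.fRK R K) ≫ NerTwist.sp t.toRingEquiv := ha1
      rw [h2, ← Category.assoc (X (K := K) x).left, X_snd, NerTwist.sp, ← Spec.map_comp,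
        ← Spec.map_comp, ← CommRingCat.ofHom_comp, ← CommRingCat.ofHom_comp]
      congr 2
      ext y
      exact (hσt y).symm
  ext1
  rw [beta_left, h1, Category.assoc, Category.assoc, ha2]
  have h3 : (SGA7.galAct σ (beta Ω e x)).left =
      Spec.map (CommRingCat.ofHom (σ : Ω →+* Ω)) ≫ (beta Ω e x).left := rfl
  rw [h3, beta_left]

end Groth.Agent.Sga7.H753.NerPts
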