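import Groth.Prelude.Def_SGA7IX

/-!
# Semilinear endomorphisms of Néron models

`R` a ring with a field `K` over it, `N` a Néron model of its generic fibre, `s`, `t` compatible ring
automorphisms of `R` and `K`.

* `exists_semilinear`: a `t`-semilinear endomorphism of the generic fibre extends to an `s`-semilinear
  endomorphism of `N`.
* `ext_semilinear`: two semilinear morphisms from a smooth scheme to `N` which agree on generic fibres
  are equal.
-/

set_option autoImplicit false

universe u

open CategoryTheory CategoryTheory.Limits AlgebraicGeometry MonObj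

namespace Groth.Agent.Sga7.H753.NerTwist

variable {R K : Type u} [CommRing R] [Field K] [Algebra R K]

variable (R K) in
/-- the morphism of spectra of `R → K`. -/
noncomputable abbrev ιg : Spec (CommRingCat.of K) ⟶ Spec (CommRingCat.of R) :=
  Spec.map (CommRingCat.ofHom (algebraMap R K))

/-- the morphism of spectra of an automorphism. -/
noncomputable abbrev sp {B : Type u} [CommRing B] (s : B ≃+* B) :
    Spec (CommRingCat.of B) ⟶ Spec (CommRingCat.of B) :=
  Spec.map (CommRingCat.ofHom (s : B →+* B))

lemma sp_symm {B : Type u} [CommRing B] (s : B ≃+* B) : sp s.symm ≫ sp s = 𝟙 _ := by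
  rw [sp, sp, ← Spec.map_comp, ← CommRingCat.ofHom_comp, ← Spec.map_id]
  congr 2
  ext x
  simp

lemma sp_symm' {B : Type u} [CommRing B] (s : B ≃+* B) : sp s ≫ sp s.symm = 𝟙 _ := by
  rw [sp, sp, ← Spec.map_comp, ← CommRingCat.ofHom_comp, ← Spec.map_id]
  congr 2
  ext x
  simp

instance {B : Type u} [CommRing B] (s : B ≃+* B) : IsIso (sp s) :=
  ⟨sp s.symm, sp_symm' s, sp_symm s⟩

section

variable {s : R ≃+* R} {t : K ≃+* K} (hst : ∀ r, t (algebraMap R K r) = algebraMap R K (s r))

include hst

lemma ι_sp : sp t ≫ ιg R K = ιg R K ≫ sp s := by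
  rw [sp, sp, ← Spec.map_comp, ← Spec.map_comp, ← CommRingCat.ofHom_comp, ← CommRingCat.ofHom_comp]
  congr 2
  ext r
  exact hst r

/-- A semilinear endomorphism of the generic fibre extends. -/
theorem exists_semilinear (N : Over (Spec (CommRingCat.of R))) (hN : SGA7.IsNeron R K N)
    (a : ((SGA7.genFib R K).obj N).left ⟶ ((SGA7.genFib R K).obj N).left)
    (ha : a ≫ ((SGA7.genFib R K).obj N).hom = ((SGA7.genFib R K).obj N).hom ≫ sp t) :
    ∃ F : N.left ⟶ N.left, F ≫ N.hom = N.hom ≫ sp s ∧
      a ≫ pullback.fst N.hom (ιg R K) = pullback.fst N.hom (ιg R K) ≫ F := by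
  obtain ⟨hsm, hsep, hqc, hner⟩ := hN
  let Y : Over (Spec (CommRingCat.of R)) := Over.mk (N.hom ≫ sp s)
  have hY : Smooth Y.hom := by
    dsimp [Y]
    infer_instance
  -- the comparison of generic fibres
  let c : ((SGA7.genFib R K).obj Y).left ⟶ ((SGA7.genFib R K).obj N).left :=
    pullback.lift (pullback.fst Y.hom (ιg R K)) (pullback.snd Y.hom (ιg R K) ≫ sp t.symm) (by
      have h1 := pullback.condition (f := Y.hom) (g := ιg R K)
      have h2 : pullback.fst Y.hom (ιg R K) ≫ N.hom =
          (pullback.fst Y.hom (ιg R K) ≫ Y.hom) ≫ sp s.symm := by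
        dsimp [Y]
        rw [Category.assoc, Category.assoc, sp_symm', Category.comp_id]
      rw [h2, h1, Category.assoc, Category.assoc]
      congr 1
      rw [← cancel_epi (sp t), ← Category.assoc (sp t), ι_sp hst, Category.assoc, sp_symm',
        ← Category.assoc, sp_symm', Category.comp_id, Category.id_comp])
  have hc1 : c ≫ pullback.fst N.hom (ιg R K) = pullback.fst Y.hom (ιg R K) := pullback.lift_fst _ _ _
  have hc2 : c ≫ pullback.snd N.hom (ιg R K) = pullback.snd Y.hom (ιg R K) ≫ sp t.symm :=
    pullback.lift_snd _ _ _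
  let g : (SGA7.genFib R K).obj Y ⟶ (SGA7.genFib R K).obj N := Over.homMk (c ≫ a) (by
    rw [Category.assoc, ha, ← Category.assoc]
    have h3 : c ≫ ((SGA7.genFib R K).obj N).hom = ((SGA7.genFib R K).obj Y).hom ≫ sp t.symm := hc2
    rw [h3, Category.assoc, sp_symm, Category.comp_id])
  obtain ⟨F, hF⟩ := (hner Y hY).2 g
  have hF : (SGA7.genFib R K).map F = g := hF
  refine ⟨F.left, Over.w F, ?_⟩
  -- the inverse of `c`
  let d : ((SGA7.genFib R K).obj N).left ⟶ ((SGA7.genFib R K).obj Y).left :=
    pullback.lift (pullback.fst N.hom (ιg R K)) (pullback.snd N.hom (ιg R K) ≫ sp t) (by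
      have h1 := pullback.condition (f := N.hom) (g := ιg R K)
      dsimp [Y]
      rw [← Category.assoc, h1, Category.assoc, Category.assoc, ι_sp hst])
  have hd1 : d ≫ pullback.fst Y.hom (ιg R K) = pullback.fst N.hom (ιg R K) := pullback.lift_fst _ _ _
  have hd2 : d ≫ pullback.snd Y.hom (ιg R K) = pullback.snd N.hom (ιg R K) ≫ sp t :=
    pullback.lift_snd _ _ _
  have hdc : d ≫ c = 𝟙 _ := by
    apply pullback.hom_ext
    · rw [Category.assoc, hc1, hd1]
      exact (Category.id_comp _).symm
    · rw [Category.assoc, hc2, ← Category.assoc, hd2, Category.assoc, sp_symm', Category.comp_id]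
      exact (Category.id_comp _).symm
  have h4 : g.left ≫ pullback.fst N.hom (ιg R K) = pullback.fst Y.hom (ιg R K) ≫ F.left := by
    rw [← hF]
    exact pullback.lift_fst _ _ _
  have h5 : d ≫ g.left = a := by
    show d ≫ c ≫ a = a
    rw [← Category.assoc, hdc, Category.id_comp]
  rw [← h5, Category.assoc, h4, ← Category.assoc, hd1]

/-- Two semilinear morphisms to a Néron model which agree on generic fibres are equal. -/
theorem ext_semilinear (N : Over (Spec (CommRingCat.of R))) (hN : SGA7.IsNeron R K N)
    (Y : Over (Spec (CommRingCat.of R))) (hY : Smooth Y.hom) (f g : Y.left ⟶ N.left)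
    (hf : f ≫ N.hom = Y.hom ≫ sp s) (hg : g ≫ N.hom = Y.hom ≫ sp s)
    (h : pullback.fst Y.hom (ιg R K) ≫ f = pullback.fst Y.hom (ιg R K) ≫ g) : f = g := by
  obtain ⟨hsm, hsep, hqc, hner⟩ := hN
  let Y' : Over (Spec (CommRingCat.of R)) := Over.mk (Y.hom ≫ sp s)
  have hY' : Smooth Y'.hom := by
    dsimp [Y']
    infer_instance
  let f' : Y' ⟶ N := Over.homMk f hf
  let g' : Y' ⟶ N := Over.homMk g hg
  have hfg : f' = g' := by
    apply (hner Y' hY').1
    dsimp only
    ext1
    apply pullback.hom_ext
    · -- compare the generic fibres of `Y'` and `Y`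
      let c : pullback Y'.hom (ιg R K) ⟶ pullback Y.hom (ιg R K) :=
        pullback.lift (pullback.fst Y'.hom (ιg R K)) (pullback.snd Y'.hom (ιg R K) ≫ sp t.symm) (by
          have h1 := pullback.condition (f := Y'.hom) (g := ιg R K)
          have h2 : pullback.fst Y'.hom (ιg R K) ≫ Y.hom =
              (pullback.fst Y'.hom (ιg R K) ≫ Y'.hom) ≫ sp s.symm := by
            dsimp [Y']
            rw [Category.assoc, Category.assoc, sp_symm', Category.comp_id]
          rw [h2, h1, Category.assoc, Category.assoc]
          congr 1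
          rw [← cancel_epi (sp t), ← Category.assoc (sp t), ι_sp hst, Category.assoc, sp_symm',
            ← Category.assoc, sp_symm', Category.comp_id, Category.id_comp])
      have hc1 : c ≫ pullback.fst Y.hom (ιg R K) = pullback.fst Y'.hom (ιg R K) :=
        pullback.lift_fst _ _ _
      have h1 : ((Over.pullback (ιg R K)).map f').left ≫ pullback.fst N.hom (ιg R K) =
          pullback.fst Y'.hom (ιg R K) ≫ f := pullback.lift_fst _ _ _
      have h2 : ((Over.pullback (ιg R K)).map g').left ≫ pullback.fst N.hom (ιg R K) =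
          pullback.fst Y'.hom (ιg R K) ≫ g := pullback.lift_fst _ _ _
      rw [h1, h2, ← hc1, Category.assoc, Category.assoc, h]
    · exact (Over.w ((Over.pullback (ιg R K)).map f')).trans
        (Over.w ((Over.pullback (ιg R K)).map g')).symm
  exact congrArg (fun z => z.left) hfg

end

end Groth.Agent.Sga7.H753.NerTwist
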