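import Groth.Agent.Sga7.H753.WildFix
import Mathlib.AlgebraicGeometry.Group.Abelian
import Mathlib.RingTheory.Nilpotent.Basic

/-!
# The action of the Galois group on the `ℓ`-power torsion points, as endomorphisms
-/

set_option autoImplicit false
set_option linter.unusedSectionVars false
set_option linter.dupNamespace false

universe u

open CategoryTheory AlgebraicGeometry MonObj

namespace Groth.Agent.Sga7.H753.Unip

open Wild WildFix

section ring

variable {G E : Type*} [Group G] [Ring E] (ρ : G →* E)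

/-- `g` acts unipotently. -/
def Unip (g : G) : Prop := IsNilpotent (ρ g - 1)

variable {ρ}

theorem Unip.mul {g h : G} (hc : Commute (ρ g) (ρ h)) (hg : Unip ρ g) (hh : Unip ρ h) : Unip ρ (g * h) := by
  have h1 : ρ (g * h) - 1 = ρ g * (ρ h - 1) + (ρ g - 1) := by
    rw [map_mul]
    noncomm_ring
  have hc1 : Commute (ρ g) (ρ h - 1) := hc.sub_right (Commute.one_right _)
  have hc2 : Commute (ρ g - 1) (ρ h - 1) := hc1.sub_left (Commute.one_left _)
  rw [Unip, h1]
  apply Commute.isNilpotent_add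
  · exact (((Commute.refl (ρ g)).sub_right (Commute.one_right _))).mul_left hc2.symm
  · exact hc1.isNilpotent_mul_left hh
  · exact hg

theorem Unip.inv {g : G} (hg : Unip ρ g) : Unip ρ g⁻¹ := by
  have h0 : ρ g⁻¹ * ρ g = 1 := by rw [← map_mul, inv_mul_cancel, map_one]
  have h0' : ρ g * ρ g⁻¹ = 1 := by rw [← map_mul, mul_inv_cancel, map_one]
  have h1 : ρ g⁻¹ - 1 = (-(ρ g⁻¹)) * (ρ g - 1) := by
    rw [mul_sub, _root_.mul_one, neg_mul, h0]
    abel
  have hc : Commute (ρ g⁻¹) (ρ g) := h0.trans h0'.symm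
  rw [Unip, h1]
  exact ((hc.neg_left).sub_right (Commute.one_right _)).isNilpotent_mul_left hg

theorem Unip.one : Unip ρ 1 := by
  rw [Unip, map_one, sub_self]
  exact IsNilpotent.zero

theorem Unip.pow {g : G} (hg : Unip ρ g) (n : ℕ) : Unip ρ (g ^ n) := by
  induction n with
  | zero => rw [pow_zero]; exact Unip.one
  | succ n ih =>
    rw [pow_succ]
    refine ih.mul ?_ hg
    rw [map_pow]
    exact (Commute.refl _).pow_left n

theorem Unip.zpow {g : G} (hg : Unip ρ g) (n : ℤ) : Unip ρ (g ^ n) := by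
  rcases n with n | n
  · rw [Int.ofNat_eq_natCast, zpow_natCast]; exact hg.pow n
  · rw [zpow_negSucc]; exact (hg.pow _).inv

end ring

section tors

variable (P : Type*) [CommGroup P] (ℓ : ℕ)

/-- The `ℓ`-power torsion. -/
def tors : AddSubgroup (Additive P) where
  carrier := {x | ∃ ν : ℕ, (ℓ ^ ν) • x = 0}
  zero_mem' := ⟨0, smul_zero _⟩
  add_mem' := by
    rintro x y ⟨ν, hx⟩ ⟨ν', hy⟩
    refine ⟨ν + ν', ?_⟩
    rw [smul_add, pow_add, mul_smul, mul_smul, hy, smul_zero, _root_.add_zero, ← mul_smul, _root_.mul_comm, mul_smul, hx,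
      smul_zero]
  neg_mem' := by
    rintro x ⟨ν, hx⟩
    exact ⟨ν, by rw [smul_neg, hx, neg_zero]⟩

variable {P ℓ}

theorem mem_tors {x : P} : Additive.ofMul x ∈ tors P ℓ ↔ ∃ ν : ℕ, x ^ (ℓ ^ ν) = 1 := Iff.rfl

/-- The endomorphism of the torsion induced by an endomorphism. -/
def resEnd (f : AddMonoid.End (Additive P)) : AddMonoid.End (tors P ℓ) :=
  (f.comp (tors P ℓ).subtype).codRestrict (tors P ℓ) (by
    rintro ⟨x, ν, hx⟩
    refine ⟨ν, ?_⟩
    change (ℓ ^ ν) • f x = 0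
    rw [← map_nsmul, hx, map_zero])

theorem coe_resEnd (f : AddMonoid.End (Additive P)) (x : tors P ℓ) :
    ((resEnd f x : tors P ℓ) : Additive P) = f x := rfl

end tors

section pts

variable {K Ω : Type u} [Field K] [Field Ω] [Algebra K Ω] (A : Over (Spec (CommRingCat.of K))) [GrpObj A]
  [IsCommMonObj A]

/-- The action of the Galois group on points. -/
noncomputable def galEnd : (Ω ≃ₐ[K] Ω) →* AddMonoid.End (Additive (SGA7.Pts Ω A)) where
  toFun σ := MonoidHom.toAdditive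
    { toFun := fun x : SGA7.Pts Ω A => SGA7.galAct σ x
      map_one' := MonObj.comp_one _
      map_mul' := fun _ _ => MonObj.comp_mul _ _ _ }
  map_one' := DFunLike.ext _ _ fun x => galAct_one (Additive.toMul x)
  map_mul' σ τ := DFunLike.ext _ _ fun x => galAct_mul σ τ (Additive.toMul x)

theorem galEnd_apply (σ : Ω ≃ₐ[K] Ω) (x : SGA7.Pts Ω A) :
    galEnd A σ (Additive.ofMul x) = Additive.ofMul (SGA7.galAct σ x) := rfl

variable (ℓ : ℕ)

/-- The action on the `ℓ`-power torsion. -/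
noncomputable def galTors : (Ω ≃ₐ[K] Ω) →* AddMonoid.End (tors (SGA7.Pts Ω A) ℓ) where
  toFun σ := resEnd (galEnd A σ)
  map_one' := by
    refine DFunLike.ext _ _ fun x => Subtype.ext ?_
    rw [coe_resEnd, map_one]
    rfl
  map_mul' σ τ := by
    refine DFunLike.ext _ _ fun x => Subtype.ext ?_
    rw [coe_resEnd, map_mul]
    rfl

variable {A ℓ}

theorem coe_galTors (σ : Ω ≃ₐ[K] Ω) (x : tors (SGA7.Pts Ω A) ℓ) :
    ((galTors A ℓ σ x : tors (SGA7.Pts Ω A) ℓ) : Additive (SGA7.Pts Ω A)) =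
      Additive.ofMul (SGA7.galAct σ (Additive.toMul (x : Additive (SGA7.Pts Ω A)))) := rfl

theorem coe_sub_one_pow (σ : Ω ≃ₐ[K] Ω) (m : ℕ) (x : tors (SGA7.Pts Ω A) ℓ) :
    ((((galTors A ℓ σ - 1) ^ m : AddMonoid.End (tors (SGA7.Pts Ω A) ℓ)) x : tors (SGA7.Pts Ω A) ℓ) :
      Additive (SGA7.Pts Ω A)) =
      Additive.ofMul ((SGA7.dev σ)^[m] (Additive.toMul (x : Additive (SGA7.Pts Ω A)))) := by
  induction m generalizing x with
  | zero => rfl
  | succ m ih =>
    rw [pow_succ, Function.iterate_succ_apply]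
    have h1 := ih ((galTors A ℓ σ - 1) x)
    have h2 : (((galTors A ℓ σ - 1) x : tors (SGA7.Pts Ω A) ℓ) : Additive (SGA7.Pts Ω A)) =
        Additive.ofMul (SGA7.dev σ (Additive.toMul (x : Additive (SGA7.Pts Ω A)))) := by
      change ((galTors A ℓ σ x - x : tors (SGA7.Pts Ω A) ℓ) : Additive (SGA7.Pts Ω A)) = _
      rw [AddSubgroup.coe_sub, coe_galTors, sub_eq_add_neg]
      rfl
    rw [h2] at h1
    exact h1

/-- Unipotence on the `ℓ`-power torsion. -/
theorem unip_iff (σ : Ω ≃ₐ[K] Ω) : Unip (galTors A ℓ) σ ↔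
    ∃ m : ℕ, ∀ (ν : ℕ) (x : SGA7.Pts Ω A), x ^ (ℓ ^ ν) = 1 → (SGA7.dev σ)^[m] x = 1 := by
  constructor
  · rintro ⟨m, hm⟩
    refine ⟨m, fun ν x hx => ?_⟩
    have h1 := coe_sub_one_pow σ m (⟨Additive.ofMul x, ν, hx⟩ : tors (SGA7.Pts Ω A) ℓ)
    rw [hm] at h1
    exact h1.symm
  · rintro ⟨m, hm⟩
    refine ⟨m, DFunLike.ext _ _ fun x => Subtype.ext ?_⟩
    rw [coe_sub_one_pow]
    obtain ⟨x, ν, hx⟩ := x
    exact hm ν _ hx

theorem commute_of_fix {σ τ : Ω ≃ₐ[K] Ω}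
    (h : ∀ (ν : ℕ) (x : SGA7.Pts Ω A), x ^ (ℓ ^ ν) = 1 → SGA7.galAct (σ * τ * σ⁻¹ * τ⁻¹) x = x) :
    Commute (galTors A ℓ σ) (galTors A ℓ τ) := by
  have h1 : galTors A ℓ (σ * τ * σ⁻¹ * τ⁻¹) = 1 := by
    refine DFunLike.ext _ _ fun x => Subtype.ext ?_
    rw [coe_galTors]
    obtain ⟨x, ν, hx⟩ := x
    exact h ν _ hx
  rw [Commute, SemiconjBy, ← map_mul, ← map_mul]
  have h2 : σ * τ = (σ * τ * σ⁻¹ * τ⁻¹) * (τ * σ) := by group
  rw [h2, map_mul, h1, _root_.one_mul]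

end pts

end Groth.Agent.Sga7.H753.Unip
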