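import Groth.Prelude.Def_SGA7a
import Groth.Agent.Sga7.H743.TameVal
import Mathlib.FieldTheory.Separable

/-!
# Inertia elements: they preserve the valuation, form a group, their commutators are wild, and wild automorphisms of
`ℓ`-power order on a geometric point fix it.
-/

set_option autoImplicit false
set_option linter.unusedSectionVars false

universe u

open CategoryTheory AlgebraicGeometry

namespace Groth.Agent.Sga7.H753.Wild

section inertia

variable {K Ω : Type u} [Field K] [Field Ω] [Algebra K Ω] [Algebra.IsAlgebraic K Ω] (W : ValuationSubring Ω)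

/-- orbits are finite -/
theorem exists_pow_apply_eq (σ : Ω ≃ₐ[K] Ω) (x : Ω) : ∃ n : ℕ, 0 < n ∧ (σ ^ n) x = x := by
  have hx : IsIntegral K x := Algebra.IsIntegral.isIntegral x
  have hroot : ∀ n : ℕ, (σ ^ n) x ∈ (minpoly K x).rootSet Ω := by
    intro n
    rw [Polynomial.mem_rootSet]
    refine ⟨minpoly.ne_zero hx, ?_⟩
    rw [Polynomial.aeval_algHom_apply (σ ^ n : Ω ≃ₐ[K] Ω) x, minpoly.aeval, map_zero]
  have hfin : Finite ((minpoly K x).rootSet Ω) := (Polynomial.rootSet_finite _ _)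
  obtain ⟨i, j, hij, h2⟩ := Finite.exists_ne_map_eq_of_infinite
    (fun n : ℕ => (⟨(σ ^ n) x, hroot n⟩ : (minpoly K x).rootSet Ω))
  have h3 : (σ ^ i) x = (σ ^ j) x := congrArg Subtype.val h2
  have key : ∀ i j : ℕ, i < j → (σ ^ i) x = (σ ^ j) x → ∃ n : ℕ, 0 < n ∧ (σ ^ n) x = x := by
    intro i j hij h
    refine ⟨j - i, Nat.sub_pos_of_lt hij, ?_⟩
    apply (σ ^ i).injective
    rw [h, ← AlgEquiv.mul_apply, ← pow_add, Nat.add_sub_cancel' hij.le]
  rcases lt_or_gt_of_ne hij with h | h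
  · exact key i j h h3
  · exact key j i h h3.symm

theorem pow_mem {σ : Ω ≃ₐ[K] Ω} (hσ : ∀ x ∈ W, σ x ∈ W) (n : ℕ) {x : Ω} (hx : x ∈ W) : (σ ^ n) x ∈ W := by
  induction n with
  | zero => exact hx
  | succ n ih =>
    rw [pow_succ', AlgEquiv.mul_apply]
    exact hσ _ ih

theorem inv_mem {σ : Ω ≃ₐ[K] Ω} (hσ : ∀ x ∈ W, σ x ∈ W) {x : Ω} (hx : x ∈ W) : σ⁻¹ x ∈ W := by
  obtain ⟨n, hn, h⟩ := exists_pow_apply_eq σ x
  obtain ⟨m, rfl⟩ : ∃ m, n = m + 1 := ⟨n - 1, by omega⟩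
  have h1 : σ⁻¹ x = (σ ^ m) x := by
    conv_lhs => rw [← h]
    rw [pow_succ', AlgEquiv.mul_apply]
    exact σ.symm_apply_apply _
  rw [h1]
  exact pow_mem W hσ m hx

theorem val_map_le {σ : Ω ≃ₐ[K] Ω} (hσ : ∀ x ∈ W, σ x ∈ W) {x y : Ω}
    (h : W.valuation x ≤ W.valuation y) : W.valuation (σ x) ≤ W.valuation (σ y) := by
  rw [ValuationSubring.valuation_le_iff] at h ⊢
  obtain ⟨a, ha⟩ := h
  exact ⟨⟨σ a, hσ _ a.2⟩, by rw [← ha, map_mul]⟩

theorem val_map_lt {σ : Ω ≃ₐ[K] Ω} (hσ : ∀ x ∈ W, σ x ∈ W) {x y : Ω}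
    (h : W.valuation x < W.valuation y) : W.valuation (σ x) < W.valuation (σ y) := by
  by_contra hcon
  push Not at hcon
  have h1 := val_map_le W (σ := σ⁻¹) (fun x hx => inv_mem W hσ hx) hcon
  have h2 : ∀ z : Ω, σ⁻¹ (σ z) = z := fun z => σ.symm_apply_apply z
  rw [h2, h2] at h1
  exact absurd h (not_lt.2 h1)

theorem not_val_lt_map {σ : Ω ≃ₐ[K] Ω} (hσ : ∀ x ∈ W, σ x ∈ W) (x : Ω) :
    ¬ W.valuation x < W.valuation (σ x) := by
  intro h
  have hmono : StrictMono fun n : ℕ => W.valuation ((σ ^ n) x) := by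
    apply strictMono_nat_of_lt_succ
    intro n
    have h1 := val_map_lt W (σ := σ ^ n) (fun x hx => pow_mem W hσ n hx) h
    rw [pow_succ]
    exact h1
  obtain ⟨n, hn, h2⟩ := exists_pow_apply_eq σ x
  have h3 := hmono hn
  simp only [pow_zero, AlgEquiv.one_apply, h2] at h3
  exact lt_irrefl _ h3

/-- An automorphism stabilizing a valuation ring of an algebraic extension preserves the valuation. -/
theorem val_map_eq {σ : Ω ≃ₐ[K] Ω} (hσ : ∀ x ∈ W, σ x ∈ W) (x : Ω) : W.valuation (σ x) = W.valuation x := by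
  apply le_antisymm
  · exact not_lt.1 (not_val_lt_map W hσ x)
  · have h1 := not_lt.1 (not_val_lt_map W (σ := σ⁻¹) (fun x hx => inv_mem W hσ hx) (σ x))
    rwa [show σ⁻¹ (σ x) = x from σ.symm_apply_apply x] at h1

variable {W}

theorem inertia_val {σ : Ω ≃ₐ[K] Ω} (hσ : SGA7.IsInertia W σ) (x : Ω) : W.valuation (σ x) = W.valuation x :=
  val_map_eq W (fun x hx => (hσ x hx).1) x

theorem inertia_inert {σ : Ω ≃ₐ[K] Ω} (hσ : SGA7.IsInertia W σ) : H743.TameVal.Inert W.valuation σ :=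
  fun x hx => (hσ x ((W.valuation_le_one_iff x).1 hx)).2

theorem inertia_one : SGA7.IsInertia W (1 : Ω ≃ₐ[K] Ω) := fun x hx => ⟨hx, by simp⟩

theorem inertia_mul {σ τ : Ω ≃ₐ[K] Ω} (hσ : SGA7.IsInertia W σ) (hτ : SGA7.IsInertia W τ) :
    SGA7.IsInertia W (σ * τ) := by
  intro x hx
  refine ⟨(hσ _ (hτ x hx).1).1, ?_⟩
  have h1 : (σ * τ) x - x = (σ (τ x) - τ x) + (τ x - x) := by
    rw [AlgEquiv.mul_apply]
    ring
  rw [h1]
  exact W.valuation.map_add_lt (hσ _ (hτ x hx).1).2 (hτ x hx).2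

theorem inertia_inv {σ : Ω ≃ₐ[K] Ω} (hσ : SGA7.IsInertia W σ) : SGA7.IsInertia W σ⁻¹ := by
  intro x hx
  have h1 : σ⁻¹ x ∈ W := inv_mem W (fun x hx => (hσ x hx).1) hx
  refine ⟨h1, ?_⟩
  have h2 := (hσ _ h1).2
  rw [show σ (σ⁻¹ x) = x from σ.apply_symm_apply x] at h2
  rwa [← Valuation.map_neg, neg_sub]

theorem inertia_zpow {σ : Ω ≃ₐ[K] Ω} (hσ : SGA7.IsInertia W σ) (n : ℤ) : SGA7.IsInertia W (σ ^ n) := by
  have hnat : ∀ m : ℕ, SGA7.IsInertia W (σ ^ m) := by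
    intro m
    induction m with
    | zero => exact inertia_one
    | succ m ih => rw [pow_succ]; exact inertia_mul ih hσ
  rcases n with n | n
  · rw [Int.ofNat_eq_natCast, zpow_natCast]; exact hnat n
  · rw [zpow_negSucc]; exact inertia_inv (hnat _)

/-- `σ` is wild: it moves each nonzero element by something smaller. -/
def IsWild (W : ValuationSubring Ω) (σ : Ω ≃ₐ[K] Ω) : Prop :=
  ∀ z : Ω, z ≠ 0 → W.valuation (σ z - z) < W.valuation z

theorem inert_scale {σ : Ω ≃ₐ[K] Ω} (hσ : SGA7.IsInertia W σ) {z w : Ω} (hz : z ≠ 0)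
    (hwz : W.valuation w = W.valuation z) : W.valuation (σ w - (σ z / z) * w) < W.valuation z := by
  have hvz : W.valuation z ≠ 0 := (Valuation.ne_zero_iff _).2 hz
  have h1 : W.valuation (w / z) = 1 := by rw [map_div₀, hwz, div_self hvz]
  have h2 : σ w - (σ z / z) * w = (σ (w / z) - w / z) * σ z := by
    have hσz : σ z ≠ 0 := (map_ne_zero σ).2 hz
    rw [map_div₀]
    field_simp
  rw [h2, map_mul, inertia_val hσ]
  calc W.valuation (σ (w / z) - w / z) * W.valuation z < 1 * W.valuation z :=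
        mul_lt_mul_of_pos_right (inertia_inert hσ _ h1.le) (zero_lt_iff.2 hvz)
    _ = W.valuation z := one_mul _

/-- Commutators of inertia elements are wild. -/
theorem isWild_commutator {σ τ : Ω ≃ₐ[K] Ω} (hσ : SGA7.IsInertia W σ) (hτ : SGA7.IsInertia W τ) :
    IsWild W (σ * τ * σ⁻¹ * τ⁻¹) := by
  intro w hw
  set z := σ⁻¹ (τ⁻¹ w) with hz
  have hw1 : w = τ (σ z) := by
    rw [hz, show σ (σ⁻¹ (τ⁻¹ w)) = τ⁻¹ w from σ.apply_symm_apply _]
    exact (τ.apply_symm_apply _).symm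
  have hz0 : z ≠ 0 := by
    rintro h0
    rw [h0, map_zero, map_zero] at hw1
    exact hw hw1
  have hvw : W.valuation w = W.valuation z := by
    rw [hw1, inertia_val hτ, inertia_val hσ]
  have h1 : (σ * τ * σ⁻¹ * τ⁻¹) w - w =
      (σ (τ z) - (σ z / z) * τ z) - (τ (σ z) - (τ z / z) * σ z) := by
    have h2 : (σ * τ * σ⁻¹ * τ⁻¹) w = σ (τ z) := rfl
    rw [h2, hw1]
    field_simp
    ring
  rw [h1, hvw]
  exact W.valuation.map_sub_lt (inert_scale hσ hz0 (inertia_val hτ z))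
    (inert_scale hτ hz0 (inertia_val hσ z))

end inertia

end Groth.Agent.Sga7.H753.Wild
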